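import Cfsg.Agent.ResidualThree.Transport
import Cfsg.Agent.PrimeDim.Tools
import Cfsg.Agent.PrimeDim.Rational
import Cfsg.Agent.Classical.HermGroup

/-!
Hermitian forms in three variables are congruent to the standard one; the order of the unitary group over twenty-five elements.
-/

set_option autoImplicit false

namespace Cfsg.Agent.ResidualThree

open Matrix Cfsg.Geo Cfsg.Agent.PrimeDim
open scoped MatrixGroups

variable {F : Type*} [Field F] [Finite F]

local notation "G3" => GL (Fin 3) F
local notation "M3" => Matrix (Fin 3) (Fin 3) F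

/-- A non-degenerate hermitian form is congruent to the standard form. -/
theorem exists_congr_one {σ : F ≃+* F} (hσ : ∀ a, σ (σ a) = a) (hne : σ ≠ RingEquiv.refl F) {G : M3}
    (hG : G.det ≠ 0) (hs : Gᵀ = G.map σ) : ∃ B : G3, act σ G (mat B) = 1 := by
  have hinv : Classical.Herm.IsInvol σ.toRingHom :=
    ⟨fun e => hne (RingEquiv.ext fun a => RingHom.congr_fun e a), hσ⟩
  have hbar : IsBar σ := ⟨hσ, hne, fun a ha => Classical.Herm.exists_norm hinv ha⟩
  have hf := isSesq_formG σ G
  have hu := isUnitaryForm_formG hbar hG hs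
  let Bf : (Fin 3 → F) →ₛₗ[σ.toRingHom] (Fin 3 → F) →ₗ[F] F :=
    LinearMap.mk₂'ₛₗ σ.toRingHom (RingHom.id F) (fun u v => formG σ G v u)
      (fun u u' v => hf.add_right v u u') (fun c u v => hf.smul_right c v u)
      (fun u v v' => hf.add_left v v' u) (fun c u v => hf.smul_left c v u)
  have hB : ∀ u v, Bf u v = formG σ G v u := fun u v => rfl
  have hherm : Classical.Herm.IsHerm Bf :=
    { toIsInvol := hinv
      symm := fun u v => by rw [hB, hB]; exact (hu.herm u v).symm
      nondeg := fun u h => by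
        by_contra h0
        obtain ⟨x, hx⟩ := (hu.nondegenerate u h0).1
        exact hx (h x) }
  obtain ⟨b, hb⟩ := Classical.Herm.exists_orthonormal hherm
  have h3 : Module.finrank F (Fin 3 → F) = 3 := by simp
  let b' : Fin 3 → (Fin 3 → F) := fun i => b (Fin.cast h3.symm i)
  have hb' : ∀ i j, formG σ G (b' j) (b' i) = if i = j then 1 else 0 := fun i j => by
    have := hb (Fin.cast h3.symm i) (Fin.cast h3.symm j)
    rw [hB] at this
    simpa [b'] using this
  have hact : act σ G (Matrix.of b')ᵀ = 1 := by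
    ext i j
    have hcol : ∀ k, (Matrix.of b')ᵀ *ᵥ Pi.single k 1 = b' k := fun k => by
      rw [Matrix.mulVec_single_one]; rfl
    rw [← formG_single σ (act σ G (Matrix.of b')ᵀ) i j, ← formG_mulVec, hcol, hcol, hb', Matrix.one_apply]
    exact if_congr eq_comm rfl rfl
  have hdet : ((Matrix.of b')ᵀ : M3).det ≠ 0 := fun e => by
    have := congrArg Matrix.det hact
    rw [det_act, e, zero_mul, zero_mul, Matrix.det_one] at this
    exact zero_ne_one this
  exact ⟨Matrix.GeneralLinearGroup.mkOfDetNeZero _ hdet, hact⟩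

/-- A special group with an invariant hermitian form over twenty-five elements has order dividing that of the unitary group. -/
theorem card_dvd_of_hermitian [Fintype F] (hF : Fintype.card F = 25) {σ : F ≃+* F} (hσ5 : ∀ x, σ x = x ^ 5)
    (hσ : ∀ a, σ (σ a) = a) (hne : σ ≠ RingEquiv.refl F) {G : M3} (hG : G.det ≠ 0) (hs : Gᵀ = G.map σ)
    {P : Subgroup G3} (hfix : Fixes σ P G) (hdet : ∀ g ∈ P, (mat g).det = 1) :
    Nat.card P ∣ 378000 := by
  obtain ⟨B, hB⟩ := exists_congr_one hσ hne hG hs
  let φ : P →* Matrix.SpecialLinearGroup (Fin 3) F :=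
    { toFun := fun g => ⟨mat (B⁻¹ * g * B), by
        rw [mat_mul, mat_mul, Matrix.det_mul, Matrix.det_mul, hdet g g.2, mul_one, ← Matrix.det_mul, mat_inv_mul,
          Matrix.det_one]⟩
      map_one' := Subtype.ext (show mat (B⁻¹ * (1 : G3) * B) = 1 by rw [mul_one, inv_mul_cancel]; exact Units.val_one)
      map_mul' := fun a b => Subtype.ext (show mat (B⁻¹ * ((a : G3) * (b : G3)) * B) =
          mat (B⁻¹ * (a : G3) * B) * mat (B⁻¹ * (b : G3) * B) by rw [← mat_mul]; congr 1; group) }
  have hinj : Function.Injective φ := fun a b e => Subtype.ext (by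
    have h1 : B⁻¹ * (a : G3) * B = B⁻¹ * b * B := Units.ext (congrArg Subtype.val e)
    exact mul_left_cancel (mul_right_cancel h1))
  have hmem : φ.range ≤ Cfsg.SU 3 F 5 := by
    rintro _ ⟨g, rfl⟩
    refine (Classical.mem_SU_iff (σ := σ.toRingHom) hσ5 _).2 fun u v => ?_
    have hfix1 : act σ 1 (mat (B⁻¹ * (g : G3) * B)) = 1 := by
      conv_lhs => rw [← hB]
      rw [← act_mul, ← mat_mul, show B * (B⁻¹ * (g : G3) * B) = (g : G3) * B by group, mat_mul, act_mul,
        hfix g g.2, hB]
    have hfb : ∀ a b : Fin 3 → F, Classical.hermB 3 σ.toRingHom a b = formG σ 1 b a := fun a b => by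
      rw [Classical.hermB_apply, formG, Matrix.one_mulVec, dotProduct]
      exact Finset.sum_congr rfl fun i _ => mul_comm _ _
    show Classical.hermB 3 σ.toRingHom (mat (B⁻¹ * (g : G3) * B) *ᵥ u) (mat (B⁻¹ * (g : G3) * B) *ᵥ v) = _
    rw [hfb, hfb, formG_mulVec, hfix1]
  obtain ⟨τ, hτq, hτ, hq, -⟩ := Classical.exists_powHom (F := F) (q := 5) (by rw [hF]; norm_num)
  have hcard : Nat.card (Cfsg.SU 3 F 5) = 378000 := by
    have h := Classical.card_SU_mul_eq_GU (n := 3) hτ hτq hq (by norm_num)
    rw [Classical.card_GU_formula hτ hτq hq] at h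
    simp [Finset.prod_range_succ, Nat.even_iff] at h
    omega
  rw [Nat.card_congr (MonoidHom.ofInjective hinj).toEquiv, ← hcard]
  exact Subgroup.card_dvd_of_le hmem

end Cfsg.Agent.ResidualThree
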