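import Cfsg.Agent.ResidualThree.Regular.Forms
import Cfsg.Agent.ResidualThree.Regular.Congr
import Cfsg.Agent.ResidualThree.Realise
import Cfsg.Agent.SelfCentThree.Main

/-!
Groups of dimension three with regular elements of order the characteristic.
-/

set_option autoImplicit false

namespace Cfsg.Agent.ResidualThree

open Matrix Cfsg.Geo Cfsg.Agent.PrimeDim
open scoped MatrixGroups

variable {F : Type*} [Field F] [Finite F] {P : Subgroup (GL (Fin 3) F)} {p n : ℕ} [Fact p.Prime] [CharP F p]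
  {h : GL (Fin 3) F} {χ y : F}

local notation "G3" => GL (Fin 3) F
local notation "M3" => Matrix (Fin 3) (Fin 3) F

omit [Finite F] [Fact p.Prime] [CharP F p] in
/-- A fixed form twists the traces. -/
theorem trace_of_fixes {σ : F ≃+* F} {G : M3} (hG : G.det ≠ 0) (hfix : Fixes σ P G) {g : G3} (hg : g ∈ P) :
    (mat g⁻¹).trace = σ (mat g).trace := by
  have hu : IsUnit G.det := isUnit_iff_ne_zero.2 hG
  have h2 : G * (mat g).map σ = (mat g⁻¹)ᵀ * G := by
    conv_rhs => rw [← hfix g hg, act]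
    rw [← mul_assoc, ← mul_assoc, ← Matrix.transpose_mul, mat_mul_inv, Matrix.transpose_one, one_mul]
  have h3 : (mat g).map σ = G⁻¹ * ((mat g⁻¹)ᵀ * G) := by
    rw [← h2, ← mul_assoc, Matrix.nonsing_inv_mul _ hu, one_mul]
  rw [show σ (mat g).trace = ((mat g).map σ).trace from AddMonoidHom.map_trace σ.toAddMonoidHom (mat g), h3,
    Matrix.trace_mul_comm, mul_assoc, Matrix.mul_nonsing_inv _ hu, mul_one, Matrix.trace_transpose]

namespace Regular

theorem Pre.sq_not_dvd (hR : RFrame P p n h χ y) (hn : n = 1) : ¬ p ^ 2 ∣ Nat.card P := by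
  intro hd
  haveI : Finite P := Finite.of_injective (fun g : P => mat (g : G3)) fun a b e => Subtype.ext (Units.ext e)
  have hQ : IsPGroup p ((P ⊓ toe).subgroupOf P) :=
    (toe_isPGroup hR.pre.odd P).of_equiv (Subgroup.subgroupOfEquivOfLe inf_le_left).symm
  obtain ⟨S, hS⟩ := hQ.exists_le_sylow
  have h1 : (S : Subgroup P).map P.subtype = P ⊓ toe := by
    refine hR.pre.syl _ (S.2.map _) (Subgroup.map_subtype_le _) fun g hg => ?_
    exact ⟨⟨g, hg.1⟩, hS (show (⟨g, hg.1⟩ : P) ∈ (P ⊓ toe).subgroupOf P from hg), rfl⟩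
  have h2 := S.card_eq_multiplicity
  rw [← Subgroup.card_map_of_injective P.subtype_injective, h1, hR.card, hn] at h2
  have h3 := ((Fact.out : p.Prime).pow_dvd_iff_le_factorization Nat.card_pos.ne').1 hd
  have h4 := Nat.pow_right_injective (Fact.out : p.Prime).two_le h2
  omega

/-- Characteristic three with a Sylow subgroup of order three. -/
theorem RFrame.char_three (R : RFrame P p n h χ y) (hp : p = 3) (hn : n = 1) :
    Nat.card (P ⧸ (scalars (Fin 3) F).subgroupOf P) = 60 ∨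
      Nat.card (P ⧸ (scalars (Fin 3) F).subgroupOf P) = 168 := by
  classical
  have hP := R.pre.core
  have hs1 : ∀ s ∈ P, s ∈ scalars (Fin 3) F → s = 1 := fun s hs hss => by
    refine scalar_p_trivial (p := p) hP hs hss (k := 1) ?_
    rw [pow_one, hp]
    exact hP.scalar_pow_three hs hss
  have hbot : (scalars (Fin 3) F).subgroupOf P = ⊥ :=
    (Subgroup.eq_bot_iff_forall _).2 fun g hg => Subtype.ext (hs1 g g.2 hg)
  let e : P ⧸ (scalars (Fin 3) F).subgroupOf P ≃* P :=
    (QuotientGroup.quotientMulEquivOfEq hbot).trans QuotientGroup.quotientBot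
  haveI : IsSimpleGroup P := by
    haveI := hP.simple
    haveI : Nontrivial P := e.symm.toEquiv.nontrivial
    exact e.symm.isSimpleGroup
  have hna : ¬ IsMulCommutative P := fun hc => hP.nonab ⟨⟨fun a b => e.injective (by
    rw [map_mul, map_mul]; exact hc.is_comm.comm _ _)⟩⟩
  obtain ⟨u, huP, c, hue⟩ := R.pre.elem
  have huQ : u ∈ P ⊓ toe := ⟨huP, 1, c, hue⟩
  have hu1 : u ≠ 1 := by
    intro e1
    rw [e1] at hue
    have := congrFun (congrFun hue 0) 1
    simp [uni, mat] at this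
  have hsc : SelfCentThree.Sc (⟨u, huP⟩ : P) := by
    refine ⟨Subtype.ext (by simpa [hp] using toe_pow p R.pre.odd huQ.2), fun e1 => hu1 (congrArg Subtype.val e1), ?_⟩
    refine le_antisymm (fun g hg => ?_) (Subgroup.zpowers_le.2 (Subgroup.mem_centralizer_singleton_iff.2 rfl))
    have hc : (g : G3) * u = u * g := congrArg Subtype.val (Subgroup.mem_centralizer_singleton_iff.1 hg)
    obtain ⟨w, hw, s, hs, hss, hgw⟩ := comm_toe (p := p) hP R.pre.notv R.pre.odd huQ hu1 g.2 hc
    rw [hs1 s hs hss, mul_one] at hgw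
    haveI : Fintype (P ⊓ toe : Subgroup G3) := Fintype.ofFinite _
    have hz := mem_zpowers_of_prime_card (p := p) (G := (P ⊓ toe : Subgroup G3)) (by rw [R.card, hn, pow_one])
      (g := ⟨u, huQ⟩) (g' := ⟨w, hw⟩) (fun e1 => hu1 (congrArg Subtype.val e1))
    obtain ⟨k, hk⟩ := Subgroup.mem_zpowers_iff.1 hz
    refine Subgroup.mem_zpowers_iff.2 ⟨k, Subtype.ext ?_⟩
    rw [SubgroupClass.coe_zpow, hgw]
    have := congrArg Subtype.val hk
    simpa using this
  have hcard : Nat.card (P ⧸ (scalars (Fin 3) F).subgroupOf P) = Nat.card P := Nat.card_congr e.toEquiv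
  rw [hcard]
  rcases SelfCentThree.concl (Nat.card P) P rfl _ hsc with ⟨N, hN, -, -, hq⟩ | ⟨N, hN, -, -, ⟨f⟩⟩ | hf
  · exfalso
    rcases hN.eq_bot_or_eq_top with h0 | h0
    · subst h0
      let f : P ⧸ (⊥ : Subgroup P) ≃* P := QuotientGroup.quotientBot
      rcases hq with h3 | ⟨⟨g⟩⟩
      · exact hna (haveI : Fact (Nat.Prime 3) := ⟨Nat.prime_three⟩
          (isCyclic_of_prime_card (p := 3) ((Nat.card_congr f.symm.toEquiv).trans h3)).isMulCommutative)
      · haveI : IsSimpleGroup (Equiv.Perm (Fin 3)) := by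
          haveI : Nontrivial (Equiv.Perm (Fin 3)) := inferInstance
          exact (f.symm.trans g).symm.isSimpleGroup
        rcases (alternatingGroup.normal (α := Fin 3)).eq_bot_or_eq_top with h1 | h1
        · have h2 := nat_card_alternatingGroup (α := Fin 3)
          rw [h1, Subgroup.card_bot, Nat.card_eq_fintype_card, Fintype.card_fin] at h2
          simp [Nat.factorial] at h2
        · have h2 := nat_card_alternatingGroup (α := Fin 3)
          rw [h1, Subgroup.card_top, Nat.card_eq_fintype_card, Nat.card_eq_fintype_card, Fintype.card_perm,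
            Fintype.card_fin] at h2
          simp [Nat.factorial] at h2
    · subst h0
      have h1 : Nat.card (P ⧸ (⊤ : Subgroup P)) = 1 := Subgroup.index_top
      rcases hq with h3 | ⟨⟨g⟩⟩
      · omega
      · rw [Nat.card_congr g.toEquiv, Nat.card_eq_fintype_card, Fintype.card_perm] at h1
        simp [Nat.factorial] at h1
  · left
    rcases hN.eq_bot_or_eq_top with h0 | h0
    · subst h0
      rw [← SelfCentThree.card_alt_five]
      exact (Nat.card_congr (QuotientGroup.quotientBot (G := P)).toEquiv).symm.trans (Nat.card_congr f.toEquiv)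
    · subst h0
      have h1 : Nat.card (P ⧸ (⊤ : Subgroup P)) = 1 := Subgroup.index_top
      rw [Nat.card_congr f.toEquiv, SelfCentThree.card_alt_five] at h1
      omega
  · right
    obtain ⟨f⟩ := hf
    rw [Nat.card_congr f.toEquiv]
    exact SelfCentThree.psl_seven.2

/-- Characteristic five with a Sylow subgroup of order five. -/
theorem RFrame.char_five (R : RFrame P p n h χ y) (hp : p = 5) (hn : n = 1)
    (hmin : ∀ F₀ : Subfield F, F₀ ≠ ⊤ → ¬ RealisableOver F₀ (matrixSet P)) :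
    (∃ G : M3, G.det ≠ 0 ∧ Gᵀ = G ∧ Fixes (RingEquiv.refl F) P G) ∨
    (Nat.card F = 25 ∧ (∃ (σ : F ≃+* F) (G : M3), (∀ a, σ (σ a) = a) ∧ σ ≠ RingEquiv.refl F ∧ G.det ≠ 0 ∧
        Gᵀ = G.map σ ∧ Fixes σ P G) ∧
      Nat.card ((scalars (Fin 3) F).subgroupOf P) = 3 ∧
      Nat.card (P ⧸ (scalars (Fin 3) F).subgroupOf P) ∣ 5040) := by
  classical
  subst hp hn
  haveI : Fintype F := Fintype.ofFinite F
  have hP := R.pre.core
  obtain ⟨u₀, hu₀P, c₀, hu₀⟩ := R.pre.elem
  have hu₀Q : u₀ ∈ P ⊓ toe := ⟨hu₀P, 1, c₀, hu₀⟩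
  have hu₀1 : u₀ ≠ 1 := by
    intro e1
    rw [e1] at hu₀
    have := congrFun (congrFun hu₀ 0) 1
    simp [uni, mat] at this
  have hparam : ∀ u ∈ P ⊓ toe, ∀ a c : F, mat u = uni a a c → ∃ k : ℕ, a = k := by
    intro u hu a c hue
    have hz := mem_zpowers_of_prime_card (p := 5) (G := (P ⊓ toe : Subgroup G3)) (by rw [R.card, pow_one])
      (g := ⟨u₀, hu₀Q⟩) (g' := ⟨u, hu⟩) (fun e1 => hu₀1 (congrArg Subtype.val e1))
    obtain ⟨k, hk⟩ := (IsOfFinOrder.mem_powers_iff_mem_zpowers (isOfFinOrder_of_finite _)).2 hz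
    refine ⟨k, ?_⟩
    have hk' : u₀ ^ k = u := congrArg Subtype.val hk
    have hpw : ∀ j : ℕ, ∃ c' : F, mat (u₀ ^ j) = uni (j : F) (j : F) c' := by
      intro j
      induction j with
      | zero => exact ⟨0, by rw [pow_zero, Nat.cast_zero, uni_zero]; exact Units.val_one⟩
      | succ j ih =>
        obtain ⟨c', hc'⟩ := ih
        refine ⟨c₀ + (j : F) * 1 + c', ?_⟩
        rw [pow_succ, mat_mul, hc', hu₀, uni_mul, Nat.cast_succ]
    obtain ⟨c', hc'⟩ := hpw k
    rw [hk'] at hc'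
    exact (param_eq hue hc').1
  have hχk : ∃ k : ℕ, χ = k := by
    have hm : h * u₀ * h⁻¹ ∈ P ⊓ toe :=
      (Subgroup.mem_normalizer_iff.1 R.mem.2 u₀).1 hu₀Q
    obtain ⟨a, c, hac⟩ := hm.2
    obtain ⟨k, hk⟩ := hparam _ hm a c hac
    refine ⟨k, ?_⟩
    have he : mat (h * u₀ * h⁻¹) * mat h = mat h * mat u₀ := by
      rw [← mat_mul, ← mat_mul, inv_mul_cancel_right]
    rw [hac, R.diag, hu₀] at he
    have h01 := congrFun (congrFun he 0) 1
    simp [uni, Matrix.mul_apply, Fin.sum_univ_three] at h01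
    have hy0 : y ≠ 0 := fun e => by simpa [e] using R.hy
    rw [← hk]
    exact mul_left_cancel₀ hy0 (by rw [← h01]; ring)
  haveI : ExpChar F 5 := ExpChar.prime (Fact.out : Nat.Prime 5)
  let σ : F ≃+* F := RingEquiv.ofBijective (frobenius F 5)
    (Finite.injective_iff_bijective.1 (frobenius F 5).injective)
  have hσ : ∀ x, σ x = x ^ 5 := fun x => frobenius_def ..
  have hσk : ∀ k : ℕ, σ (k : F) = k := fun k => map_natCast σ k
  have h6 : ∀ μ : F, μ ^ 3 = 1 → μ * σ μ = 1 := fun μ hμ => by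
    rw [hσ, ← pow_succ', show (5 + 1 : ℕ) = 3 * 2 from rfl, pow_mul, hμ, one_pow]
  obtain ⟨G, hG, hfix⟩ := R.exists_fixes σ (fun u hu a c e => by obtain ⟨k, rfl⟩ := hparam u hu a c e; exact hσk k)
    (by obtain ⟨k, rfl⟩ := hχk; exact hσk k) (h6 y R.hy)
    (fun μ ⟨s, hs, hse⟩ => h6 μ (hP.scalar_cube hs hse)) (by norm_num)
  -- the traces are fixed by the square
  have htr : ∀ g ∈ P, σ (σ (mat g).trace) = (mat g).trace := fun g hg => by
    rw [← trace_of_fixes hG hfix hg, ← trace_of_fixes hG hfix (inv_mem hg), inv_inv]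
  let F₀ : Subfield F := RingHom.eqLocusField (σ.toRingHom.comp σ.toRingHom) (RingHom.id F)
  have htop : F₀ = ⊤ := by
    by_contra hne
    refine hmin F₀ hne (realisable_of_rankOne hP.irr F₀ (a := Pi.single 0 1) (α := Pi.single 2 1)
      (by simp) (by simp) fun g hg => ?_)
    have hN : vecMulVec (Pi.single 0 1 : Fin 3 → F) (Pi.single 2 1) = mat (u₀ * u₀) - (2 : ℕ) • mat u₀ + 1 := by
      rw [mat_mul, hu₀, uni_mul]
      ext i j
      fin_cases i <;> fin_cases j <;> simp [uni, vecMulVec_apply] <;> ring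
    rw [hN, add_mul, sub_mul, one_mul, Matrix.smul_mul, Matrix.trace_add, Matrix.trace_sub, Matrix.trace_smul,
      ← mat_mul, ← mat_mul]
    exact add_mem (sub_mem (htr _ (mul_mem (mul_mem hu₀P hu₀P) hg)) (nsmul_mem (htr _ (mul_mem hu₀P hg)) 2))
      (htr g hg)
  have hσσ : ∀ x, σ (σ x) = x := fun x => (htop ▸ Subfield.mem_top x : x ∈ F₀)
  obtain ⟨k, -, hk⟩ := FiniteField.card F 5
  have hk2 : (k : ℕ) = 1 ∨ (k : ℕ) = 2 := by
    have hd : Fintype.card F - 1 ∣ 24 := (FiniteField.forall_pow_eq_one_iff F 24).1 fun x => by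
      refine Units.ext (mul_right_cancel₀ x.ne_zero ?_)
      rw [Units.val_pow_eq_pow_val, ← pow_succ, Units.val_one, one_mul, show (24 + 1 : ℕ) = 5 * 5 from rfl, pow_mul,
        ← hσ, ← hσ, hσσ]
    have hle := Nat.le_of_dvd (by norm_num) hd
    rw [hk] at hle
    rcases Nat.lt_or_ge (k : ℕ) 3 with h3 | h3
    · have := k.pos; omega
    · have := Nat.pow_le_pow_right (show 0 < 5 by norm_num) h3
      omega
  by_cases hμ : ∀ s ∈ P, s ∈ scalars (Fin 3) F → s = 1
  · -- all weights vanish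
    have hy1 : y = 1 := by
      obtain ⟨j, hj⟩ := hχk
      have hj4 : χ ^ 4 = 1 := by
        refine mul_right_cancel₀ R.χ0 ?_
        rw [← pow_succ, one_mul, show (4 + 1 : ℕ) = 5 from rfl, ← hσ, hj, hσk]
      have hy4 : y ^ 4 = y := by rw [pow_succ, R.hy, one_mul]
      have hh : mat (h ^ 4) = y • (1 : M3) := by
        rw [mat_pow, R.diag, Matrix.diagonal_pow, ← Matrix.diagonal_one, ← Matrix.diagonal_smul]
        congr 1
        funext i
        fin_cases i <;> simp [mul_pow, div_pow, hj4, hy4]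
      have hy0 : y ≠ 0 := fun e => by simpa [e] using R.hy
      have := hμ _ (pow_mem R.mem.1 4) ((mem_scalars_iff _).2 ⟨Units.mk0 y hy0, hh⟩)
      rw [this] at hh
      simpa [mat] using (congrFun (congrFun hh 0) 0).symm
    obtain ⟨G', hG', hfix'⟩ := R.exists_fixes (RingEquiv.refl F) (fun _ _ _ _ _ => rfl) rfl (by simp [hy1])
      (fun μ ⟨s, hs, hse⟩ => by
        have hμ0 : μ ≠ 0 := fun e => by simpa [e] using hP.scalar_cube hs hse
        have := hμ s hs ((mem_scalars_iff _).2 ⟨Units.mk0 μ hμ0, hse⟩)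
        rw [this] at hse
        have h00 : (1 : F) = μ := by simpa [mat] using congrFun (congrFun hse 0) 0
        simp [← h00]) (by norm_num)
    exact Or.inl ⟨G', hG', exists_symmetric (by decide) hP.abs hG' hfix', hfix'⟩
  rcases hk2 with hk1 | hk2
  · have hrefl : σ = RingEquiv.refl F := RingEquiv.ext fun x => by
      have := FiniteField.pow_card x
      rw [hk, hk1, pow_one] at this
      rw [hσ, this]; rfl
    rw [hrefl] at hfix
    exact Or.inl ⟨G, hG, exists_symmetric (by decide) hP.abs hG hfix, hfix⟩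
  right
  have hF : Fintype.card F = 25 := by rw [hk, hk2]; norm_num
  have hne : σ ≠ RingEquiv.refl F := by
    intro e
    have hd : Fintype.card F - 1 ∣ 4 := (FiniteField.forall_pow_eq_one_iff F 4).1 fun x => by
      refine Units.ext (mul_right_cancel₀ x.ne_zero ?_)
      rw [Units.val_pow_eq_pow_val, ← pow_succ, Units.val_one, one_mul, show (4 + 1 : ℕ) = 5 from rfl, ← hσ, e]
      rfl
    rw [hF] at hd
    exact absurd (Nat.le_of_dvd (by norm_num) hd) (by norm_num)
  obtain ⟨G', hG', hherm, hfix'⟩ := exists_hermitian hP.abs hσσ hne hG hfix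
  set Z := (scalars (Fin 3) F).subgroupOf P
  have hZ3 : Nat.card Z = 3 := by
    haveI : Fact (Nat.Prime 3) := ⟨Nat.prime_three⟩
    have hpow : IsPGroup 3 Z := fun z => ⟨1, Subtype.ext (Subtype.ext (by
      simpa using hP.scalar_pow_three (z : P).2 z.2))⟩
    obtain ⟨j, hj⟩ := IsPGroup.iff_card.1 hpow
    have hle : Nat.card Z ≤ 3 := by
      refine le_trans ?_ ((Polynomial.card_nthRoots 3 (1 : F)))
      refine le_trans ?_ (Multiset.toFinset_card_le _)
      rw [← Nat.card_eq_finsetCard]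
      refine Nat.card_le_card_of_injective (fun z => ⟨mat ((z : P) : G3) 0 0, ?_⟩) ?_
      · obtain ⟨c, hc⟩ := (mem_scalars_iff _).1 z.2
        rw [Multiset.mem_toFinset, Polynomial.mem_nthRoots (by norm_num)]
        have h3 := hP.scalar_cube (z : P).2 hc
        simpa [show mat ((z : P) : G3) = _ from hc] using h3
      · intro a b hab
        obtain ⟨c, hc⟩ := (mem_scalars_iff _).1 a.2
        obtain ⟨d, hd⟩ := (mem_scalars_iff _).1 b.2
        have e : mat ((a : P) : G3) 0 0 = mat ((b : P) : G3) 0 0 := congrArg Subtype.val hab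
        rw [show mat ((a : P) : G3) = _ from hc, show mat ((b : P) : G3) = _ from hd] at e
        refine Subtype.ext (Subtype.ext (Units.ext ?_))
        show mat ((a : P) : G3) = mat ((b : P) : G3)
        rw [show mat ((a : P) : G3) = _ from hc, show mat ((b : P) : G3) = _ from hd, show (c : F) = d by simpa using e]
    have hlt : 1 < Nat.card Z := by
      push Not at hμ
      obtain ⟨s, hs, hss, hs1⟩ := hμ
      haveI : Nontrivial Z := ⟨⟨⟨⟨s, hs⟩, hss⟩, 1, fun e => hs1 (congrArg (fun z : Z => ((z : P) : G3)) e)⟩⟩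
      exact Finite.one_lt_card
    rcases Nat.lt_or_ge j 2 with hj2 | hj2
    · interval_cases j <;> omega
    · have := Nat.pow_le_pow_right (show 0 < 3 by norm_num) hj2
      omega
  refine ⟨by rw [Nat.card_eq_fintype_card, hF], ⟨σ, G', hσσ, hne, hG', hherm, hfix'⟩, hZ3, ?_⟩
  have hdvd := card_dvd_of_hermitian hF hσ hσσ hne hG' hherm hfix' fun g hg => hP.det_eq_one hg
  have h25 := Pre.sq_not_dvd R rfl
  have h15120 : Nat.card P ∣ 15120 := by
    have hg : Nat.gcd (Nat.card P) 125 ∣ 5 := by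
      obtain ⟨i, hi, he⟩ := (Nat.dvd_prime_pow (Fact.out : Nat.Prime 5)).1
        (show Nat.gcd (Nat.card P) 125 ∣ 5 ^ 3 from Nat.gcd_dvd_right _ _)
      rw [he]
      rcases Nat.lt_or_ge i 2 with h2 | h2
      · exact pow_dvd_pow 5 (show i ≤ 1 by omega)
      · exact absurd ((pow_dvd_pow 5 h2).trans (he ▸ Nat.gcd_dvd_left _ _)) h25
    have : Nat.card P ∣ Nat.gcd (Nat.card P) 125 * 3024 := by
      rw [← Nat.gcd_mul_right]
      exact Nat.dvd_gcd (Dvd.intro _ rfl) (by simpa using hdvd)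
    exact this.trans (by simpa using Nat.mul_dvd_mul_right hg 3024)
  have hmul := Z.card_eq_card_quotient_mul_card_subgroup
  rw [hmul, hZ3] at h15120
  exact Nat.dvd_of_mul_dvd_mul_right (by norm_num) (h15120.trans (by norm_num : (15120 : ℕ) ∣ 5040 * 3))

end Regular

open Regular in
omit [Finite F] [Fact p.Prime] [CharP F p] in
theorem conjGrp_back (B : G3) : PrimeDim.conjGrp B⁻¹ (PrimeDim.conjGrp B P) = P := by
  ext g
  rw [mem_conjGrp, mem_conjGrp]
  simp [mul_assoc]

open Regular in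
omit [Finite F] [Fact p.Prime] [CharP F p] in
theorem hmin_conjGrp (hmin : ∀ F₀ : Subfield F, F₀ ≠ ⊤ → ¬ RealisableOver F₀ (matrixSet P)) (B : G3) :
    ∀ F₀ : Subfield F, F₀ ≠ ⊤ → ¬ RealisableOver F₀ (matrixSet (PrimeDim.conjGrp B P)) := by
  intro F₀ hne hr
  obtain ⟨C, hC⟩ := realisable_mat.1 hr
  refine hmin F₀ hne (realisable_mat.2 ⟨C * B, fun g hg => ?_⟩)
  have := hC (B * g * B⁻¹) ⟨g, hg, rfl⟩
  rwa [show C * B * g * (C * B)⁻¹ = C * (B * g * B⁻¹) * C⁻¹ by group]

open Regular in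
omit [Fact p.Prime] [CharP F p] in
/-- Transport of a fixed form. -/
theorem forms_back {σ : F ≃+* F} {B : G3} {G : M3} (hG : G.det ≠ 0)
    (hfix : Fixes σ (PrimeDim.conjGrp B P) G) :
    (act σ G (mat B)).det ≠ 0 ∧ Fixes σ P (act σ G (mat B)) := by
  refine ⟨?_, ?_⟩
  · rw [det_act]
    exact mul_ne_zero (mul_ne_zero (det_mat_ne_zero B) hG) ((map_ne_zero σ).2 (det_mat_ne_zero B))
  · have := fixes_conj hfix B⁻¹
    rwa [inv_inv, conjGrp_back] at this

open Regular in
/-- A group whose elements of order the characteristic are regular, the characteristic dividing its order. -/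
theorem Core.regular_cases (hP : Core P) (hmin : ∀ F₀ : Subfield F, F₀ ≠ ⊤ → ¬ RealisableOver F₀ (matrixSet P))
    (hnt : NoTv P) (p : ℕ) [Fact p.Prime] [CharP F p] (hp : p ≠ 2) (hdvd : p ∣ Nat.card P) :
    (∃ G : M3, G.det ≠ 0 ∧ Gᵀ = G ∧ Fixes (RingEquiv.refl F) P G) ∨
    (p = 3 ∧ (Nat.card (P ⧸ (scalars (Fin 3) F).subgroupOf P) = 60 ∨
      Nat.card (P ⧸ (scalars (Fin 3) F).subgroupOf P) = 168)) ∨
    (p = 5 ∧ Nat.card F = 25 ∧
      (∃ (σ : F ≃+* F) (G : M3), (∀ a, σ (σ a) = a) ∧ σ ≠ RingEquiv.refl F ∧ G.det ≠ 0 ∧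
        Gᵀ = G.map σ ∧ Fixes σ P G) ∧
      Nat.card (P ⧸ (scalars (Fin 3) F).subgroupOf P) ∣ 5040) := by
  obtain ⟨B, n, h, χ, y, R⟩ := exists_rframe hP hnt hp hdvd
  have hp2 := (Fact.out : p.Prime).two_le
  have hP' := R.pre.core
  have hmin' := hmin_conjGrp hmin B
  have fin : (∃ G : M3, G.det ≠ 0 ∧ Fixes (RingEquiv.refl F) (PrimeDim.conjGrp B P) G) →
      ∃ G : M3, G.det ≠ 0 ∧ Gᵀ = G ∧ Fixes (RingEquiv.refl F) P G := fun ⟨G, hG, hfix⟩ =>
    ⟨_, (forms_back hG hfix).1, exists_symmetric (by decide) hP.abs (forms_back hG hfix).1 (forms_back hG hfix).2,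
      (forms_back hG hfix).2⟩
  rcases eq_or_ne p 3 with h3 | h3
  · rcases eq_or_ne n 1 with hn | hn
    · refine Or.inr (Or.inl ⟨h3, ?_⟩)
      rw [← quot_card_conj B]
      exact R.char_three h3 hn
    · have hn2 : 2 ≤ n := by have := R.pos; omega
      have hone : ∀ μ : F, μ ^ 3 = 1 → μ = 1 := fun μ hμ => cube_root_three hμ h3
      refine Or.inl (fin (R.exists_fixes (RingEquiv.refl F) (fun _ _ _ _ _ => rfl) rfl
        (by simp [hone y R.hy]) (fun μ ⟨s, hs, hse⟩ => by simp [hone μ (hP'.scalar_cube hs hse)]) ?_))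
      rw [h3]; omega
  have h5 : 5 ≤ p := by
    by_contra hlt
    interval_cases p
    · exact hp rfl
    · exact h3 rfl
    · exact absurd (Fact.out : Nat.Prime 4) (by norm_num)
  have h3F : (3 : F) ≠ 0 := fun e => h3
    ((Nat.prime_dvd_prime_iff_eq Fact.out Nat.prime_three).1 ((CharP.cast_eq_zero_iff F p 3).1 (by exact_mod_cast e)))
  by_cases hbig : 6 ≤ n * (p - 1)
  · exact Or.inl (fin (R.exists_fixes_large h3F hbig))
  obtain ⟨rfl, hp5⟩ : n = 1 ∧ p = 5 := by
    have h1 : n * 4 ≤ n * (p - 1) := Nat.mul_le_mul_left n (by omega)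
    have := R.pos
    obtain rfl : n = 1 := by omega
    refine ⟨rfl, ?_⟩
    have h6 : p ≠ 6 := fun e => absurd (e ▸ (Fact.out : p.Prime)) (by norm_num)
    omega
  rcases R.char_five hp5 rfl hmin' with ⟨G, hG, -, hfix⟩ | ⟨hF, ⟨σ, G, hσ, hne, hG, -, hfix⟩, -, hc⟩
  · exact Or.inl (fin ⟨G, hG, hfix⟩)
  · obtain ⟨G', hG', hherm, hfix'⟩ := exists_hermitian hP.abs hσ hne (forms_back hG hfix).1 (forms_back hG hfix).2
    refine Or.inr (Or.inr ⟨hp5, hF, ⟨σ, G', hσ, hne, hG', hherm, hfix'⟩, ?_⟩)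
    rwa [← quot_card_conj B]

end Cfsg.Agent.ResidualThree
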