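import Cfsg.Agent.ResidualThree.Regular.Deg

/-!
Sums over the cosets of a subgroup whose normal elementary abelian part acts freely off the base coset.
-/

set_option autoImplicit false

namespace Cfsg.Agent.ResidualThree.Regular

variable {G : Type*} [Group G] [Finite G] {K : Type*} [Field K]

/-- Sum over the left cosets. -/
noncomputable def cosetSum (N : Subgroup G) (f : G → K) : K :=
  letI := Fintype.ofFinite (G ⧸ N)
  ∑ c : G ⧸ N, f c.out

theorem out_invariant (N : Subgroup G) {f : G → K} (hf : ∀ g, ∀ k ∈ N, f (g * k) = f g) (g : G) :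
    f ((g : G ⧸ N)).out = f g := by
  obtain ⟨k, hk⟩ := QuotientGroup.mk_out_eq_mul N g
  rw [hk, hf g k k.2]

/-- Left translation does not change the sum. -/
theorem cosetSum_left (N : Subgroup G) {f : G → K} (hf : ∀ g, ∀ k ∈ N, f (g * k) = f g) (x : G) :
    cosetSum N (fun g => f (x * g)) = cosetSum N f := by
  unfold cosetSum
  letI := Fintype.ofFinite (G ⧸ N)
  refine Fintype.sum_equiv (MulAction.toPerm x) _ _ fun c => ?_
  show f (x * c.out) = f (x • c).out
  conv_rhs => rw [← QuotientGroup.out_eq' c, MulAction.Quotient.smul_mk, out_invariant N hf, smul_eq_mul]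

theorem cosetSum_linear (N : Subgroup G) {ι : Type*} [Fintype ι] (a : ι → K) (f : ι → G → K) :
    cosetSum N (fun g => ∑ i, a i * f i g) = ∑ i, a i * cosetSum N (f i) := by
  unfold cosetSum
  rw [Finset.sum_comm]
  exact Finset.sum_congr rfl fun i _ => Finset.mul_sum _ _ _ |>.symm

/-- Only the base coset contributes to a sum of small degree. -/
theorem cosetSum_eq (p : ℕ) [Fact p.Prime] [CharP K p] (N Q : Subgroup G) (hQN : Q ≤ N)
    (hfree : ∀ g ∉ N, ∀ u ∈ Q, g⁻¹ * u * g ∈ N → u = 1) (hexp : ∀ u : Q, u ^ p = 1) {n : ℕ}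
    (hcard : Nat.card Q = p ^ n) {f : G → K} (hf : ∀ g, ∀ k ∈ N, f (g * k) = f g) {d : ℕ}
    (hdeg : ∀ g, Deg d (fun u : Q => f (u * g))) (hd : d < n * (p - 1)) : cosetSum N f = f 1 := by
  classical
  unfold cosetSum
  letI := Fintype.ofFinite (G ⧸ N)
  haveI : Fintype Q := Fintype.ofFinite Q
  haveI : Fintype (⊤ : Subgroup Q) := Fintype.ofFinite _
  set c₀ : G ⧸ N := ((1 : G) : G ⧸ N) with hc₀
  rw [← Finset.add_sum_erase Finset.univ _ (Finset.mem_univ c₀), out_invariant N hf 1, add_eq_left]
  rw [← Finset.sum_fiberwise_of_maps_to (t := (Finset.univ.erase c₀).image fun c : G ⧸ N => MulAction.orbit Q c)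
    (g := fun c : G ⧸ N => MulAction.orbit Q c) (fun c hc => Finset.mem_image_of_mem _ hc)]
  refine Finset.sum_eq_zero fun O hO => ?_
  obtain ⟨c, hc, rfl⟩ := Finset.mem_image.1 hO
  have hcne := Finset.ne_of_mem_erase hc
  have hg : c.out ∉ N := fun hmem => hcne (by
    rw [← QuotientGroup.out_eq' c, hc₀, eq_comm, QuotientGroup.eq]; simpa using hmem)
  have hsmul : ∀ u : Q, u • c = (((u : G) * c.out : G) : G ⧸ N) := fun u => by
    conv_lhs => rw [← QuotientGroup.out_eq' c]
    rfl
  have hinj : Function.Injective fun u : Q => u • c := by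
    intro u v h
    simp only [hsmul] at h
    have h' := QuotientGroup.eq.1 h
    rw [_root_.mul_inv_rev, mul_assoc, ← mul_assoc (u : G)⁻¹] at h'
    have := hfree _ hg _ (mul_mem (inv_mem u.2) v.2) (by simpa [mul_assoc] using h')
    exact Subtype.ext (inv_mul_eq_one.1 this)
  have hfib : (Finset.univ.erase c₀).filter (fun d => MulAction.orbit Q d = MulAction.orbit Q c) =
      Finset.univ.image (fun u : Q => u • c) := by
    ext e
    simp only [Finset.mem_filter, Finset.mem_erase, Finset.mem_univ, and_true, Finset.mem_image, true_and]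
    constructor
    · rintro ⟨-, he⟩
      exact MulAction.mem_orbit_iff.1 (he ▸ MulAction.mem_orbit_self e)
    · rintro ⟨u, rfl⟩
      refine ⟨fun e => ?_, MulAction.orbit_eq_iff.2 (MulAction.mem_orbit c u)⟩
      rw [hsmul, hc₀, eq_comm, QuotientGroup.eq, inv_one, one_mul] at e
      have := mul_mem (inv_mem (hQN u.2)) e
      rw [inv_mul_cancel_left] at this
      exact hg this
  rw [hfib, Finset.sum_image fun u _ v _ h => hinj h]
  simp only [hsmul, out_invariant N hf]
  have h := sum_eq_zero_of_deg (A := Q) p hexp n ⊤ (by rw [Subgroup.card_top, hcard]) (hdeg c.out) hd 1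
  rw [← h]
  refine (Fintype.sum_equiv Subgroup.topEquiv.toEquiv _ _ fun u => ?_).symm
  simp

end Cfsg.Agent.ResidualThree.Regular
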