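import Mathlib

/-!
Polynomial degree of functions on a group and vanishing of sums over elementary abelian groups.
-/

set_option autoImplicit false

namespace Cfsg.Agent.ResidualThree.Regular

open Polynomial

variable {A : Type*} [Group A] {R : Type*} [CommRing R]

/-- The difference of a function by left translation. -/
def diffOp (x : A) (f : A → R) : A → R := fun a => f (x * a) - f a

/-- `f` has degree at most `d`: `d + 1` differences kill it. -/
def Deg : ℕ → (A → R) → Prop
  | 0, f => ∀ x a, f (x * a) = f a
  | d + 1, f => ∀ x, Deg d (diffOp x f)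

theorem Deg.const (c : R) : ∀ d : ℕ, Deg d (fun _ : A => c)
  | 0 => fun _ _ => rfl
  | d + 1 => fun x => by
    rw [show diffOp x (fun _ : A => c) = fun _ => 0 from funext fun a => sub_self c]
    exact Deg.const 0 d

theorem Deg.zero' (d : ℕ) : Deg d (0 : A → R) := Deg.const 0 d

theorem Deg.succ : ∀ {d : ℕ} {f : A → R}, Deg d f → Deg (d + 1) f
  | 0, f, h => fun x y a => by simp [diffOp, h x]
  | d + 1, _, h => fun x => (h x).succ

theorem Deg.mono {d e : ℕ} {f : A → R} (h : Deg d f) (hde : d ≤ e) : Deg e f := by
  induction hde with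
  | refl => exact h
  | step _ ih => exact ih.succ

theorem Deg.add : ∀ {d : ℕ} {f g : A → R}, Deg d f → Deg d g → Deg d (f + g)
  | 0, f, g, hf, hg => fun x a => by simp [hf x, hg x]
  | d + 1, f, g, hf, hg => fun x => by
    rw [show diffOp x (f + g) = diffOp x f + diffOp x g from
      funext fun a => show f (x * a) + g (x * a) - (f a + g a) = f (x * a) - f a + (g (x * a) - g a) by ring]
    exact (hf x).add (hg x)

theorem Deg.sum {ι : Type*} (s : Finset ι) {d : ℕ} {f : ι → A → R} (h : ∀ i ∈ s, Deg d (f i)) :
    Deg d (fun a => ∑ i ∈ s, f i a) := by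
  classical
  induction s using Finset.induction_on with
  | empty => simpa using Deg.const (A := A) (0 : R) d
  | insert a s ha ih =>
    rw [show (fun b => ∑ i ∈ insert a s, f i b) = f a + fun b => ∑ i ∈ s, f i b from
      funext fun b => Finset.sum_insert ha]
    exact (h a (Finset.mem_insert_self a s)).add (ih fun i hi => h i (Finset.mem_insert_of_mem hi))

theorem Deg.const_mul (c : R) : ∀ {d : ℕ} {f : A → R}, Deg d f → Deg d (fun a => c * f a)
  | 0, f, h => fun x a => by simp only [h x]
  | d + 1, f, h => fun x => by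
    rw [show diffOp x (fun a => c * f a) = fun a => c * diffOp x f a from
      funext fun a => (mul_sub c _ _).symm]
    exact (h x).const_mul c

theorem Deg.mul_const (c : R) {d : ℕ} {f : A → R} (h : Deg d f) : Deg d (fun a => f a * c) := by
  simpa only [mul_comm _ c] using h.const_mul c

theorem Deg.shift : ∀ {d : ℕ} {f : A → R} (y : A), Deg d f → Deg d (fun a => f (y * a))
  | 0, f, y, h => fun x a => by simp only [h y, h x]
  | d + 1, f, y, h => fun x => by
    have := (h (y * x * y⁻¹)).shift y
    rwa [show diffOp x (fun a => f (y * a)) = fun a => diffOp (y * x * y⁻¹) f (y * a) from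
      funext fun a => by simp [diffOp, mul_assoc]]

theorem Deg.mul : ∀ {d e : ℕ} {f g : A → R}, Deg d f → Deg e g → Deg (d + e) (fun a => f a * g a)
  | 0, e, f, g, hf, hg => by
    rw [zero_add]
    have hc : f = fun _ => f 1 := funext fun a => by simpa using hf a 1
    rw [hc]
    exact hg.const_mul _
  | d + 1, 0, f, g, hf, hg => by
    rw [add_zero]
    have hc : g = fun _ => g 1 := funext fun a => by simpa using hg a 1
    rw [hc]
    exact hf.mul_const _
  | d + 1, e + 1, f, g, hf, hg => fun x => by
    have h1 : Deg (d + (e + 1)) (fun a => diffOp x f a * g (x * a)) := (hf x).mul (hg.shift x)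
    have h2 : Deg (d + 1 + e) (fun a => f a * diffOp x g a) := hf.mul (hg x)
    rw [show diffOp x (fun a => f a * g a) = (fun a => diffOp x f a * g (x * a)) + fun a => f a * diffOp x g a from
      funext fun a => show f (x * a) * g (x * a) - f a * g a =
        (f (x * a) - f a) * g (x * a) + f a * (g (x * a) - g a) by ring]
    exact (h1.mono (by simp only [Nat.add_eq]; omega)).add (h2.mono (by simp only [Nat.add_eq]; omega))

theorem Deg.prod {ι : Type*} (s : Finset ι) {d : ι → ℕ} {f : ι → A → R} (h : ∀ i ∈ s, Deg (d i) (f i)) :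
    Deg (∑ i ∈ s, d i) (fun a => ∏ i ∈ s, f i a) := by
  classical
  induction s using Finset.induction_on with
  | empty => simpa using Deg.const (A := A) (1 : R) 0
  | insert a s ha ih =>
    simp only [Finset.sum_insert ha, Finset.prod_insert ha]
    exact (h a (Finset.mem_insert_self a s)).mul (ih fun i hi => h i (Finset.mem_insert_of_mem hi))

theorem Deg.map {S : Type*} [CommRing S] (τ : R →+* S) :
    ∀ {d : ℕ} {f : A → R}, Deg d f → Deg d (fun a => τ (f a))
  | 0, f, h => fun x a => by simp only [h x]
  | d + 1, f, h => fun x => by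
    rw [show diffOp x (fun a => τ (f a)) = fun a => τ (diffOp x f a) from funext fun a => (map_sub τ _ _).symm]
    exact (h x).map τ

theorem Deg.iterate : ∀ (m : ℕ) {d : ℕ} {f : A → R} (x : A), Deg d f →
    Deg (d - m) ((diffOp x)^[m] f) ∧ (d < m → (diffOp x)^[m] f = 0)
  | 0, d, f, x, h => ⟨h, fun hd => absurd hd (Nat.not_lt_zero d)⟩
  | m + 1, 0, f, x, h => by
    have h0 : diffOp x f = 0 := funext fun a => sub_eq_zero.2 (h x a)
    rw [Function.iterate_succ_apply, h0, Function.iterate_fixed (funext fun a => sub_self (0 : R))]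
    exact ⟨Deg.zero' _, fun _ => rfl⟩
  | m + 1, d + 1, f, x, h => by
    obtain ⟨h1, h2⟩ := Deg.iterate m x (h x)
    rw [Function.iterate_succ_apply, Nat.succ_sub_succ]
    exact ⟨h1, fun hd => h2 (by omega)⟩

section Sum

variable {K : Type*} [Field K]

theorem geom_eq (p : ℕ) [Fact p.Prime] [CharP K p] :
    (X - 1 : K[X]) ^ (p - 1) = ∑ t ∈ Finset.range p, X ^ t := by
  refine mul_left_cancel₀ (X_sub_C_ne_zero (1 : K)) ?_
  rw [map_one, ← pow_succ', Nat.sub_add_cancel (Fact.out : p.Prime).one_le, mul_comm, geom_sum_mul,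
    sub_pow_char, one_pow]

/-- The sum over a power orbit is an iterated difference. -/
theorem sum_powers (p : ℕ) [Fact p.Prime] [CharP K p] (x : A) (f : A → K) (a : A) :
    ∑ t ∈ Finset.range p, f (x ^ t * a) = (diffOp x)^[p - 1] f a := by
  let S : Module.End K (A → K) :=
    { toFun := fun g b => g (x * b), map_add' := fun _ _ => rfl, map_smul' := fun _ _ => rfl }
  have hS : ∀ (t : ℕ) (g : A → K), (S ^ t) g = fun b => g (x ^ t * b) := by
    intro t
    induction t with
    | zero => intro g; simp
    | succ t ih =>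
      intro g
      rw [pow_succ, Module.End.mul_apply, ih]
      funext b
      show g (x * (x ^ t * b)) = g (x ^ (t + 1) * b)
      rw [pow_succ', mul_assoc]
  have hD : ∀ (t : ℕ) (g : A → K), ((S - 1) ^ t) g = (diffOp x)^[t] g := by
    intro t
    induction t with
    | zero => intro g; simp
    | succ t ih => intro g; rw [pow_succ, Module.End.mul_apply, ih, Function.iterate_succ_apply]; rfl
  have h := congrArg (fun P : K[X] => (Polynomial.aeval S P) f a) (geom_eq (K := K) p)
  simp only [map_pow, map_sub, Polynomial.aeval_X, map_one, map_sum, LinearMap.coe_sum, Finset.sum_apply, hD,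
    hS] at h
  exact h.symm

/-- Small degree functions sum to zero over an elementary abelian group. -/
theorem sum_eq_zero_of_deg (p : ℕ) [Fact p.Prime] [CharP K p] [Finite A] (hexp : ∀ a : A, a ^ p = 1) :
    ∀ (m : ℕ) (H : Subgroup A) [Fintype H], Nat.card H = p ^ m → ∀ {d : ℕ} {f : A → K}, Deg d f →
      d < m * (p - 1) → ∀ b : A, ∑ k : H, f ((k : A) * b) = 0
  | 0, H, _, hH, d, f, _, hd, _ => by omega
  | m + 1, H, _, hH, d, f, hf, hd, b => by
    classical
    have hp : p.Prime := Fact.out
    obtain ⟨L₀, hL₀⟩ := Sylow.exists_subgroup_card_pow_prime (G := H) p (n := m)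
      (by rw [hH]; exact pow_dvd_pow p (Nat.le_succ m))
    set L : Subgroup A := L₀.map H.subtype with hL
    have hLH : L ≤ H := Subgroup.map_subtype_le L₀
    have hLc : Nat.card L = p ^ m := by
      rw [hL, Nat.card_congr (L₀.equivMapOfInjective _ H.subtype_injective).symm.toEquiv, hL₀]
    obtain ⟨x, hxH, hxL⟩ : ∃ x ∈ H, x ∉ L := by
      by_contra! hc
      have := Subgroup.card_le_of_le (show H ≤ L from hc)
      rw [hLc, hH] at this
      exact absurd this (not_le.2 (pow_lt_pow_right₀ hp.one_lt (Nat.lt_succ_self m)))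
    haveI : Fintype L := Fintype.ofFinite L
    -- the elements `x ^ t * l` exhaust the subgroup
    let φ : Fin p × L → H := fun z => ⟨x ^ (z.1 : ℕ) * z.2, mul_mem (pow_mem hxH _) (hLH z.2.2)⟩
    have hinj : Function.Injective φ := by
      rintro ⟨t, l⟩ ⟨t', l'⟩ h
      have h' : x ^ (t : ℕ) * l = x ^ (t' : ℕ) * (l' : A) := congrArg Subtype.val h
      have htt : t = t' := by
        by_contra hne
        have hmem : x ^ ((t : ℤ) - t') ∈ L := by
          have e : x ^ ((t : ℤ) - t') = x ^ (-(t' : ℤ)) * (x ^ (t : ℕ) * l) * (l : A)⁻¹ := by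
            rw [← zpow_natCast, mul_assoc, mul_inv_cancel_right, ← zpow_add]; congr 1; ring
          rw [e, h', zpow_neg, zpow_natCast, inv_mul_cancel_left]
          exact mul_mem l'.2 (inv_mem l.2)
        have hgcd : Int.gcd ((t : ℤ) - t') p = 1 := by
          rw [Int.gcd, Int.natAbs_natCast, Nat.gcd_comm]
          exact (Nat.Prime.coprime_iff_not_dvd hp).2 fun hdiv => hne (Fin.ext (by
            have := Nat.eq_zero_of_dvd_of_lt hdiv (by omega)
            omega))
        refine hxL ?_
        have hb := Int.gcd_eq_gcd_ab ((t : ℤ) - t') p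
        rw [hgcd, Nat.cast_one] at hb
        rw [← zpow_one x, hb, zpow_add, zpow_mul, zpow_mul, zpow_natCast, hexp, one_zpow, mul_one]
        exact zpow_mem hmem _
      subst htt
      exact Prod.ext rfl (Subtype.ext (mul_left_cancel h'))
    have hbij : Function.Bijective φ := (Fintype.bijective_iff_injective_and_card φ).2 ⟨hinj, by
      rw [Fintype.card_prod, Fintype.card_fin, ← Nat.card_eq_fintype_card, ← Nat.card_eq_fintype_card, hLc, hH,
        pow_succ, mul_comm]⟩
    rw [← hbij.sum_comp fun k : H => f ((k : A) * b), Fintype.sum_prod_type, Finset.sum_comm]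
    have e : ∀ l : L, ∑ t : Fin p, f (((φ (t, l) : H) : A) * b) = (diffOp x)^[p - 1] f ((l : A) * b) := fun l => by
      rw [← sum_powers p x f]
      rw [← Fin.sum_univ_eq_sum_range (fun t => f (x ^ t * ((l : A) * b))) p]
      exact Finset.sum_congr rfl fun t _ => congrArg f (mul_assoc _ _ _)
    simp only [e]
    obtain ⟨h1, h2⟩ := hf.iterate (p - 1) x
    rcases lt_or_ge d (p - 1) with hlt | hge
    · simp [h2 hlt]
    · exact sum_eq_zero_of_deg p hexp m L hLc h1 (by rw [add_mul, one_mul] at hd; omega) b

end Sum

end Cfsg.Agent.ResidualThree.Regular
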