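import Cfsg.Agent.ResidualThree.Regular.Frame

/-!
A diagonal generator of the normaliser over the Sylow subgroup and the scalars.
-/

set_option autoImplicit false

namespace Cfsg.Agent.ResidualThree.Regular

open Matrix Cfsg.Geo Cfsg.Agent.PrimeDim Cfsg.Agent.ResidualThree
open scoped MatrixGroups

variable {F : Type*} [Field F] [Finite F] {P : Subgroup (GL (Fin 3) F)} {p : ℕ} [Fact p.Prime] [CharP F p]

local notation "G3" => GL (Fin 3) F
local notation "M3" => Matrix (Fin 3) (Fin 3) F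

/-- The complete data of the Sylow normaliser. -/
structure RFrame (P : Subgroup G3) (p n : ℕ) (h : G3) (χ y : F) : Prop where
  pre : Pre P p
  card : Nat.card (P ⊓ toe : Subgroup G3) = p ^ n
  pos : 1 ≤ n
  mem : h ∈ Nrm P
  diag : mat h = Matrix.diagonal ![y * χ, y, y / χ]
  hy : y ^ 3 = 1
  χ0 : χ ≠ 0
  χ1 : χ ≠ 1
  gen : ∀ g ∈ Nrm P, ∃ u ∈ P ⊓ toe, ∃ s ∈ P, s ∈ scalars (Fin 3) F ∧ ∃ k : ℕ, g = u * s * h ^ k

omit [Finite F] [Fact p.Prime] [CharP F p] in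
theorem toe_conj {B g : G3} {x w z : F} (hB : mat B = uni x w z) (hg : g ∈ toe) : B * g * B⁻¹ ∈ toe := by
  obtain ⟨a, c, he⟩ := hg
  refine ⟨a, c + (x - w) * a, ?_⟩
  have h : uni a a (c + (x - w) * a) * mat B = mat B * mat g := by
    rw [hB, he, uni_mul, uni_mul]
    congr 1 <;> ring
  calc mat (B * g * B⁻¹) = uni a a (c + (x - w) * a) * mat B * mat B⁻¹ := by rw [mat_mul, mat_mul, h]
    _ = _ := by rw [mul_assoc, mat_mul_inv, mul_one]

omit [Finite F] [Fact p.Prime] [CharP F p] in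
theorem inv_uni {B : G3} {x w z : F} (hB : mat B = uni x w z) : mat B⁻¹ = uni (-x) (-w) (x * w - z) := by
  have h : mat B * uni (-x) (-w) (x * w - z) = 1 := by
    rw [hB, uni_mul, ← uni_zero]; congr 1 <;> ring
  calc mat B⁻¹ = mat B⁻¹ * (mat B * uni (-x) (-w) (x * w - z)) := by rw [h, mul_one]
    _ = _ := by rw [← mul_assoc, mat_inv_mul, one_mul]

omit [Finite F] [Fact p.Prime] [CharP F p] in
theorem toe_conjGrp {B : G3} {x w z : F} (hB : mat B = uni x w z) :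
    PrimeDim.conjGrp B P ⊓ toe = PrimeDim.conjGrp B (P ⊓ toe) := by
  ext g
  rw [Subgroup.mem_inf, mem_conjGrp, mem_conjGrp, Subgroup.mem_inf]
  refine and_congr_right fun _ => ⟨fun h => ?_, fun h => ?_⟩
  · simpa [mul_assoc] using toe_conj (inv_uni hB) h
  · simpa [mul_assoc] using toe_conj hB h

theorem Pre.conj (h : Pre P p) {B : G3} {x w z : F} (hB : mat B = uni x w z) : Pre (PrimeDim.conjGrp B P) p := by
  refine ⟨h.core.conjGrp B, fun X hX => h.notv _ (isTv_of_conjGrp hX), h.odd, ?_, fun S hS hSP hQS => ?_⟩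
  · obtain ⟨g, hg, c, he⟩ := h.elem
    refine ⟨B * g * B⁻¹, ⟨g, hg, rfl⟩, c + (x - w) * 1, ?_⟩
    have h1 : uni 1 1 (c + (x - w) * 1) * mat B = mat B * mat g := by
      rw [hB, he, uni_mul, uni_mul]
      congr 1 <;> ring
    calc mat (B * g * B⁻¹) = uni 1 1 (c + (x - w) * 1) * mat B * mat B⁻¹ := by rw [mat_mul, mat_mul, h1]
      _ = _ := by rw [mul_assoc, mat_mul_inv, mul_one]
  · have h1 : PrimeDim.conjGrp B⁻¹ S = P ⊓ toe := by
      refine h.syl _ (hS.map _) ?_ ?_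
      · rintro _ ⟨s, hs, rfl⟩
        have := mem_conjGrp.1 (hSP hs)
        simpa [MulAut.conj_apply] using this
      · intro g hg
        rw [mem_conjGrp]
        refine hQS ?_
        rw [toe_conjGrp hB, mem_conjGrp]
        simpa [mul_assoc] using hg
    rw [toe_conjGrp hB, ← h1]
    ext g
    rw [mem_conjGrp, mem_conjGrp]
    simp [mul_assoc]

omit [Finite F] [Fact p.Prime] [CharP F p] in
theorem nrm_conj {B : G3} {x w z : F} (hB : mat B = uni x w z) {g : G3} :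
    g ∈ Nrm (PrimeDim.conjGrp B P) ↔ B⁻¹ * g * B ∈ Nrm P := by
  have key : ∀ v : G3, v ∈ PrimeDim.conjGrp B P ⊓ toe ↔ B⁻¹ * v * B ∈ P ⊓ toe := fun v => by
    rw [toe_conjGrp hB, mem_conjGrp]
  rw [Nrm, Nrm, Subgroup.mem_inf, Subgroup.mem_inf, mem_conjGrp, Subgroup.mem_normalizer_iff,
    Subgroup.mem_normalizer_iff]
  refine and_congr_right fun _ => ⟨fun h v => ?_, fun h v => ?_⟩
  · have := h (B * v * B⁻¹)
    simp only [SetLike.mem_coe, key] at this ⊢
    simpa [mul_assoc] using this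
  · have := h (B⁻¹ * v * B)
    simp only [SetLike.mem_coe, key] at this ⊢
    simpa [mul_assoc] using this

omit [Finite F] [Fact p.Prime] [CharP F p] in
/-- Upper triangular matrices multiply on the diagonal. -/
theorem tri_pow {H : M3} (h10 : H 1 0 = 0) (h20 : H 2 0 = 0) (h21 : H 2 1 = 0) :
    ∀ k : ℕ, (H ^ k) 1 0 = 0 ∧ (H ^ k) 2 0 = 0 ∧ (H ^ k) 2 1 = 0 ∧ ∀ i, (H ^ k) i i = H i i ^ k := by
  intro k
  induction k with
  | zero => simp
  | succ k ih =>
    obtain ⟨a, b, c, d⟩ := ih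
    rw [pow_succ]
    refine ⟨?_, ?_, ?_, fun i => ?_⟩
    · simp [Matrix.mul_apply, Fin.sum_univ_three, a, h10, h20]
    · simp [Matrix.mul_apply, Fin.sum_univ_three, b, c, h10, h20]
    · simp [Matrix.mul_apply, Fin.sum_univ_three, b, c, h21]
    · have d0 := d 0; have d1 := d 1; have d2 := d 2
      rw [pow_succ (H i i)]
      fin_cases i <;> simp [Matrix.mul_apply, Fin.sum_univ_three, a, b, c, h10, h20, h21, d0, d1, d2]

/-- Conjugating by a unitriangular element makes an element of order prime to `p` diagonal. -/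
theorem exists_diagonaliser {g : G3} {m : ℕ} (hm : g ^ m = 1) (hpm : ¬ p ∣ m) {a b c x w z : F}
    (he : mat g = !![a, x, z; 0, b, w; 0, 0, c]) :
    ∃ (B : G3) (x' w' z' : F), mat B = uni x' w' z' ∧ mat (B * g * B⁻¹) = Matrix.diagonal ![a, b, c] := by
  set H := mat g with hH
  have h10 : H 1 0 = 0 := by simp [he]
  have h20 : H 2 0 = 0 := by simp [he]
  have h21 : H 2 1 = 0 := by simp [he]
  have hHm : H ^ m = 1 := by rw [hH, ← mat_pow, hm]; exact Units.val_one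
  have hd : ∀ i : Fin 3, H i i ^ m = 1 := fun i => by
    rw [← (tri_pow h10 h20 h21 m).2.2.2, hHm, Matrix.one_apply_eq]
  have hm0 : m ≠ 0 := fun e => hpm (e ▸ dvd_zero p)
  have hmF : (m : F) ≠ 0 := fun e => hpm ((CharP.cast_eq_zero_iff F p m).1 e)
  have hne : ∀ i : Fin 3, H i i ≠ 0 := fun i e => by
    have := hd i
    rw [e, zero_pow hm0] at this
    exact zero_ne_one this
  set D : M3 := Matrix.diagonal fun i => H i i with hD
  set E : M3 := Matrix.diagonal fun i => (H i i)⁻¹ with hE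
  have hDE : D * E = 1 := by
    rw [hD, hE, Matrix.diagonal_mul_diagonal]
    simp [hne]
  have hEm : E ^ m = 1 := by
    rw [hE, Matrix.diagonal_pow, ← Matrix.diagonal_one]
    congr 1
    funext i
    simp [hd]
  set U : M3 := (m : F)⁻¹ • ∑ i ∈ Finset.range m, E ^ i * H ^ i with hU
  have hUH : U * H = D * U := by
    rw [hU, Matrix.smul_mul, Matrix.mul_smul, Finset.sum_mul, Finset.mul_sum]
    congr 1
    have e1 : ∀ i, E ^ i * H ^ i * H = D * (E ^ (i + 1) * H ^ (i + 1)) := fun i => by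
      rw [pow_succ' E i, mul_assoc E, ← mul_assoc D, hDE, one_mul, pow_succ, mul_assoc]
    rw [Finset.sum_congr rfl fun i _ => e1 i, ← Finset.mul_sum, ← Finset.mul_sum]
    congr 1
    obtain ⟨k, rfl⟩ := Nat.exists_eq_succ_of_ne_zero hm0
    rw [Finset.sum_range_succ (fun i => E ^ (i + 1) * H ^ (i + 1)) k,
      Finset.sum_range_succ' (fun i => E ^ i * H ^ i) k, hEm, hHm, pow_zero, pow_zero]
  have hUt : U 1 0 = 0 ∧ U 2 0 = 0 ∧ U 2 1 = 0 ∧ ∀ i, U i i = 1 := by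
    have e : ∀ i j : Fin 3, U i j = (m : F)⁻¹ * ∑ k ∈ Finset.range m, (H i i)⁻¹ ^ k * (H ^ k) i j := fun i j => by
      rw [hU, Matrix.smul_apply, Matrix.sum_apply, smul_eq_mul]
      simp [hE, Matrix.diagonal_pow, Matrix.diagonal_mul]
    have t := tri_pow h10 h20 h21
    refine ⟨?_, ?_, ?_, fun i => ?_⟩
    · simp [e, (t _).1]
    · simp [e, (t _).2.1]
    · simp [e, (t _).2.2.1]
    · rw [e]
      have : ∀ k, (H i i)⁻¹ ^ k * (H ^ k) i i = 1 := fun k => by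
        rw [(t k).2.2.2, inv_pow, inv_mul_cancel₀ (pow_ne_zero k (hne i))]
      rw [Finset.sum_congr rfl fun k _ => this k]
      simp [hmF]
  have hUu : U = uni (U 0 1) (U 1 2) (U 0 2) := by
    ext i j
    fin_cases i <;> fin_cases j <;> simp [uni, hUt.1, hUt.2.1, hUt.2.2.1, hUt.2.2.2]
  have hdet : U.det = 1 := by rw [hUu, uni, Matrix.det_fin_three]; simp
  let B : G3 := ((Matrix.isUnit_iff_isUnit_det U).2 (hdet ▸ isUnit_one)).unit
  have hB : mat B = U := IsUnit.unit_spec _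
  refine ⟨B, U 0 1, U 1 2, U 0 2, hB.trans hUu, ?_⟩
  rw [mat_mul, mat_mul, ← hH, hB, hUH, ← hB, mul_assoc, mat_mul_inv, mul_one, hD]
  congr 1
  funext i
  fin_cases i <;> simp [he]

set_option maxHeartbeats 1000000 in
/-- After a conjugation the complete data exist. -/
theorem exists_rframe (hP : Core P) (hnt : NoTv P) (hp : p ≠ 2) (hdvd : p ∣ Nat.card P) :
    ∃ (B : G3) (n : ℕ) (h : G3) (χ y : F), RFrame (PrimeDim.conjGrp B P) p n h χ y := by
  obtain ⟨B₀, hpre⟩ := exists_pre hP hnt hp hdvd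
  set P₀ := PrimeDim.conjGrp B₀ P with hP₀
  -- the ratio as a homomorphism
  let φ : Nrm P₀ →* Fˣ := MonoidHom.toHomUnits
    { toFun := fun g => ratio (g : G3)
      map_one' := by simp [ratio, mat]
      map_mul' := fun a b => hpre.ratio_mul a.2 b.2 }
  have hφ : ∀ g : Nrm P₀, (φ g : F) = ratio (g : G3) := fun g => rfl
  obtain ⟨⟨_, g₀, rfl⟩, hgen⟩ := IsCyclic.exists_generator (α := φ.range)
  obtain ⟨s, m, hpm, hord⟩ := Nat.exists_eq_pow_mul_and_not_dvd (orderOf_pos g₀).ne' p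
    (Fact.out : p.Prime).ne_one
  set g₁ : Nrm P₀ := g₀ ^ p ^ s with hg₁
  have hg₁m : (g₁ : G3) ^ m = 1 := by
    rw [← SubgroupClass.coe_pow, hg₁, ← pow_mul, ← hord, pow_orderOf_eq_one, OneMemClass.coe_one]
  -- it still generates
  have hcop : (p ^ s).Coprime (orderOf (φ g₀)) := by
    refine Nat.Coprime.pow_left s ((Nat.Prime.coprime_iff_not_dvd Fact.out).2 fun hd => ?_)
    have h1 : (φ g₀) ^ (orderOf (φ g₀) / p) = 1 := by
      set t := (φ g₀) ^ (orderOf (φ g₀) / p) with ht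
      have htp : t ^ p = 1 := by rw [ht, ← pow_mul, Nat.div_mul_cancel hd, pow_orderOf_eq_one]
      have h0 : ((t : F) - 1) ^ p = 0 := by
        rw [sub_pow_char, ← Units.val_pow_eq_pow_val, htp, Units.val_one, one_pow, sub_self]
      exact Units.ext (sub_eq_zero.1 ((pow_eq_zero_iff (Fact.out : p.Prime).ne_zero).1 h0))
    have hpos := orderOf_pos (φ g₀)
    have := Nat.le_of_dvd (Nat.div_pos (Nat.le_of_dvd hpos hd) (Fact.out : p.Prime).pos)
      (orderOf_dvd_of_pow_eq_one h1)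
    exact absurd this (not_le.2 (Nat.div_lt_self hpos (Fact.out : p.Prime).one_lt))
  obtain ⟨t, ht⟩ := exists_pow_eq_self_of_coprime hcop
  obtain ⟨χ, y, x, w, z, he, hχ, hy⟩ := hpre.nrm_shape g₁.2
  obtain ⟨B₁, x', w', z', hB₁, hdiag⟩ := exists_diagonaliser (p := p) hg₁m hpm he
  have hcomp : PrimeDim.conjGrp B₁ P₀ = PrimeDim.conjGrp (B₁ * B₀) P := by
    ext g
    rw [hP₀, mem_conjGrp, mem_conjGrp, mem_conjGrp]
    simp [mul_assoc]
  obtain ⟨n, hn⟩ := IsPGroup.iff_card.1 (toe_isPGroup (p := p) hp (PrimeDim.conjGrp B₁ P₀))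
  have hpre₁ := hpre.conj hB₁
  refine ⟨B₁ * B₀, n, B₁ * g₁ * B₁⁻¹, χ, y, hcomp ▸ ⟨hpre₁, hn, ?_, ?_, hdiag, hy, hχ, ?_, ?_⟩⟩
  · by_contra hn0
    obtain ⟨u, hu, c, hue⟩ := hpre₁.elem
    have hbot := Subgroup.eq_bot_of_card_eq _ (show Nat.card (PrimeDim.conjGrp B₁ P₀ ⊓ toe : Subgroup G3) = 1 by
      rw [hn, show n = 0 by omega, pow_zero])
    have : u = 1 := (Subgroup.mem_bot).1 (hbot ▸ (⟨hu, 1, c, hue⟩ : u ∈ PrimeDim.conjGrp B₁ P₀ ⊓ toe))
    subst this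
    have e := congrFun (congrFun hue 0) 1
    simp [uni, mat] at e
  · rw [nrm_conj hB₁]
    simpa [mul_assoc] using g₁.2
  · intro hχ1
    obtain ⟨g, hg, hgr⟩ := hpre.exists_ratio
    refine hgr ?_
    obtain ⟨k, hk⟩ := Subgroup.mem_zpowers_iff.1 (hgen ⟨φ ⟨g, hg⟩, ⟨g, hg⟩, rfl⟩)
    have h1 : φ g₁ = 1 := Units.ext (by rw [hφ, ratio_eq he hy, hχ1, Units.val_one])
    have h0 : φ g₀ = 1 := by
      rw [← ht, ← map_pow, show g₀ ^ p ^ s = g₁ from rfl, h1, one_pow]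
    have e := congrArg (fun a : φ.range => ((a : Fˣ) : F)) hk
    simp only [SubgroupClass.coe_zpow, h0, _root_.one_zpow, Units.val_one] at e
    rw [← hφ ⟨g, hg⟩, ← e]
  · intro g hg
    rw [nrm_conj hB₁] at hg
    obtain ⟨k, hk⟩ := Subgroup.mem_zpowers_iff.1 (hgen ⟨φ ⟨_, hg⟩, ⟨_, hg⟩, rfl⟩)
    have hk' : φ g₁ ^ ((k * t : ℤ)) = φ ⟨_, hg⟩ := by
      have e := congrArg (fun a : φ.range => (a : Fˣ)) hk
      simp only [SubgroupClass.coe_zpow] at e
      rw [← e]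
      conv_rhs => rw [← ht]
      rw [hg₁, map_pow, mul_comm k, _root_.zpow_mul, zpow_natCast]
    obtain ⟨j, hj⟩ : ∃ j : ℕ, φ (g₁ ^ j) = φ ⟨_, hg⟩ := by
      have hmem : φ ⟨_, hg⟩ ∈ Subgroup.zpowers (φ g₁) := ⟨k * t, hk'⟩
      rw [← mem_powers_iff_mem_zpowers] at hmem
      obtain ⟨j, hj⟩ := hmem
      exact ⟨j, by rw [map_pow]; exact hj⟩
    have hr : ratio (((⟨_, hg⟩ * (g₁ ^ j)⁻¹ : Nrm P₀) : G3)) = 1 := by
      rw [← hφ, map_mul, map_inv, hj, mul_inv_cancel, Units.val_one]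
    obtain ⟨u, hu, s', hs', hss, hus⟩ := hpre.ratio_one (⟨_, hg⟩ * (g₁ ^ j)⁻¹ : Nrm P₀).2 hr
    simp only [Subgroup.coe_mul, Subgroup.coe_inv, SubgroupClass.coe_pow, mul_inv_eq_iff_eq_mul] at hus
    have hs_comm : B₁ * s' * B₁⁻¹ = s' := by rw [← scalar_commute hss, mul_inv_cancel_right]
    refine ⟨B₁ * u * B₁⁻¹, ?_, s', ?_, hss, j, ?_⟩
    · rw [toe_conjGrp hB₁]; exact ⟨u, hu, rfl⟩
    · exact ⟨s', hs', hs_comm⟩
    · rw [conj_pow]
      calc g = B₁ * (B₁⁻¹ * g * B₁) * B₁⁻¹ := by group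
        _ = B₁ * (u * s' * (g₁ : G3) ^ j) * B₁⁻¹ := by rw [hus]
        _ = B₁ * u * B₁⁻¹ * s' * (B₁ * (g₁ : G3) ^ j * B₁⁻¹) := by
          conv_rhs => rw [← hs_comm]
          group

end Cfsg.Agent.ResidualThree.Regular
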