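import Cfsg.Agent.ResidualThree.Regular.Pure

/-!
The Sylow subgroup is the image of a one-parameter subgroup: the second parameter is half the square of the first.
-/

set_option autoImplicit false

namespace Cfsg.Agent.ResidualThree.Regular

open Matrix Cfsg.Geo Cfsg.Agent.PrimeDim Cfsg.Agent.ResidualThree
open scoped MatrixGroups

variable {F : Type*} [Field F] [Finite F] {P : Subgroup (GL (Fin 3) F)} {p n : ℕ} [Fact p.Prime] [CharP F p]
  {h : GL (Fin 3) F} {χ y : F}

local notation "G3" => GL (Fin 3) F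
local notation "M3" => Matrix (Fin 3) (Fin 3) F

/-- Signs with sum divisible by three. -/
theorem exists_signs : ∀ k : ℕ, k ≠ 1 → ∃ r : Fin k → ℕ, (∀ j, r j = 1 ∨ r j = 2) ∧ (∑ j, r j) % 3 = 0
  | 0, _ => ⟨Fin.elim0, fun j => j.elim0, rfl⟩
  | 1, h => absurd rfl h
  | 2, _ => ⟨![1, 2], fun j => by fin_cases j <;> simp, rfl⟩
  | 3, _ => ⟨![1, 1, 1], fun j => by fin_cases j <;> simp, rfl⟩
  | k + 4, _ => by
    obtain ⟨r, hr, hs⟩ := exists_signs (k + 2) (by omega)
    refine ⟨Fin.cons 1 (Fin.cons 2 r), fun j => ?_, ?_⟩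
    · refine Fin.cases ?_ (fun j => ?_) j
      · simp
      · refine Fin.cases ?_ (fun j => ?_) j
        · simp
        · simpa using hr j
    · rw [Fin.sum_cons, Fin.sum_cons]; omega

omit [Finite F] in
theorem cube_root_three {μ : F} (hμ : μ ^ 3 = 1) (h3 : p = 3) : μ = 1 := by
  subst h3
  have : (μ - 1) ^ 3 = 0 := by rw [sub_pow_char, hμ, one_pow, sub_self]
  exact sub_eq_zero.1 ((pow_eq_zero_iff (by norm_num)).1 this)

theorem RFrame.list_false (R : RFrame P p n h χ y) (L : List ℕ) (hL : L ≠ [])
    (hχ : χ ^ (L.map fun k => p ^ k).sum = 1) (hd : 2 * L.length < n * (p - 1)) (h1 : p = 3 ∨ L.length ≠ 1) :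
    False := by
  classical
  have hpos : 0 < L.length := List.length_pos_of_ne_nil hL
  haveI : Nonempty (Fin L.length) := ⟨⟨0, hpos⟩⟩
  set E : Fin L.length → ℕ := fun j => p ^ L.get j with hE
  have hsum : (L.map fun k => p ^ k).sum = ∑ j, E j := by
    rw [← Fin.sum_univ_getElem, ← Fintype.sum_equiv (finCongr (List.length_map (as := L) fun k => p ^ k).symm)
      (fun j => E j) _ fun j => by simp [E]]
  obtain ⟨w, hw, hw3⟩ : ∃ w : Fin L.length → ℕ, (∀ j, w j = 1 ∨ w j = 2) ∧
      (p = 3 ∨ (∑ j, w j * E j) % 3 = 0) := by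
    by_cases h3 : p = 3
    · exact ⟨fun _ => 1, fun _ => Or.inl rfl, Or.inl h3⟩
    obtain ⟨r, hr, hr3⟩ := exists_signs L.length (h1.resolve_left h3)
    have hE3 : ∀ j, E j % 3 = 1 ∨ E j % 3 = 2 := fun j => by
      have hnd : ¬ 3 ∣ E j := fun hd =>
        h3 ((Nat.prime_dvd_prime_iff_eq Nat.prime_three Fact.out).1 (Nat.prime_three.dvd_of_dvd_pow hd)).symm
      omega
    refine ⟨fun j => r j * E j % 3, fun j => ?_, Or.inr ?_⟩
    · have h1 := hr j; have h2 := hE3 j
      have := Nat.mul_mod (r j) (E j) 3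
      show r j * E j % 3 = 1 ∨ r j * E j % 3 = 2
      rcases h1 with e | e <;> rcases h2 with e' | e' <;> rw [this, e, e'] <;> norm_num
    · have hj : ∀ j, (r j * E j % 3 * E j) % 3 = r j % 3 := fun j => by
        rw [Nat.mul_mod, Nat.mod_mod, Nat.mul_mod (r j)]
        rcases hr j with e | e <;> rcases hE3 j with e' | e' <;> rw [e, e']
      rw [Finset.sum_nat_mod, Finset.sum_congr rfl fun j _ => hj j, ← Finset.sum_nat_mod, hr3]
  set kind : Fin L.length → Bool := fun j => decide (w j = 1) with hkind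
  set τ : Fin L.length → (F →+* F) := fun j => iterateFrobenius F p (L.get j) with hτ
  have hpw : ∀ (j) (x : F), τ j x = x ^ E j := fun j x => iterateFrobenius_def p (L.get j) x
  have htw : ∀ μ : F, μ ^ 3 = 1 → ∀ j, τ j (if kind j then μ else μ⁻¹) = μ ^ (w j * E j) := by
    intro μ hμ j
    rw [hpw, pow_mul]
    congr 1
    rcases hw j with e | e
    · simp [hkind, e]
    · simp only [hkind, e, OfNat.ofNat_ne_one, decide_false, Bool.false_eq_true, if_false]
      exact inv_eq_of_mul_eq_one_right (by rw [← pow_succ', hμ])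
  have hmu : ∀ μ : F, μ ^ 3 = 1 → μ ^ (∑ j, w j * E j) = 1 := by
    intro μ hμ
    rcases hw3 with h3 | h3
    · rw [cube_root_three hμ h3, one_pow]
    · rw [← Nat.div_add_mod (∑ j, w j * E j) 3, h3, add_zero, pow_mul, hμ, one_pow]
  refine R.pure_false kind τ ?_ ?_ (by rwa [Fintype.card_fin])
  · rintro μ ⟨s, hs, hse⟩
    have hμ : μ ^ 3 = 1 := R.pre.core.scalar_cube hs hse
    rw [Finset.prod_congr rfl fun j _ => htw μ hμ j, Finset.prod_pow_eq_pow_sum, hmu μ hμ]
  · have e : ∀ j, τ j (if kind j then y * χ else χ / y) = y ^ (w j * E j) * χ ^ E j := fun j => by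
      rw [← htw y R.hy j, ← hpw j χ, ← map_mul]
      congr 1
      cases kind j <;> simp [div_eq_mul_inv, mul_comm]
    rw [Finset.prod_congr rfl fun j _ => e j, Finset.prod_mul_distrib, Finset.prod_pow_eq_pow_sum,
      Finset.prod_pow_eq_pow_sum, hmu y R.hy, one_mul, ← hsum, hχ]

/-- The ratio has not order two when the Sylow subgroup is large. -/
theorem RFrame.sq_ne_one (R : RFrame P p n h χ y) (hd : 4 < n * (p - 1)) : χ ^ 2 ≠ 1 := fun e =>
  R.list_false [0, 0] (by simp) (by simpa using e) (by simpa using hd) (Or.inr (by simp))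

omit [Finite F] [Fact p.Prime] [CharP F p] in
theorem param_eq {u : G3} {a c a' c' : F} (h1 : mat u = uni a a c) (h2 : mat u = uni a' a' c') :
    a = a' ∧ c = c' := by
  rw [h1] at h2
  constructor
  · simpa [uni] using congrFun (congrFun h2 0) 1
  · simpa [uni] using congrFun (congrFun h2 0) 2

omit [Finite F] in
theorem geom_digits (k : ℕ) : ((p - 1) * ∑ i ∈ Finset.range k, p ^ i) + 1 = p ^ k := by
  induction k with
  | zero => simp
  | succ k ih =>
    rw [Finset.sum_range_succ, mul_add, add_right_comm, ih]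
    obtain ⟨q, hq⟩ : ∃ q, p = q + 1 := ⟨p - 1, by have := (Fact.out : p.Prime).one_lt; omega⟩
    subst hq
    rw [pow_succ, Nat.add_sub_cancel]
    ring

omit [Finite F] in
theorem sum_digits (k : ℕ) :
    ((List.range k).flatMap fun i => List.replicate (p - 1) i).length = k * (p - 1) ∧
      (((List.range k).flatMap fun i => List.replicate (p - 1) i).map fun i => p ^ i).sum + 1 = p ^ k := by
  constructor
  · induction k with
    | zero => simp
    | succ k ih => rw [List.range_succ, List.flatMap_append, List.length_append, ih]; simp [add_mul]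
  · rw [← geom_digits (p := p) k]
    congr 1
    induction k with
    | zero => simp
    | succ k ih =>
      rw [List.range_succ, List.flatMap_append, List.map_append, List.sum_append, ih, Finset.sum_range_succ,
        mul_add]
      simp

/-- The second parameter is half the square of the first. -/
theorem RFrame.two_c (R : RFrame P p n h χ y) {u : G3} (hu : u ∈ P ⊓ toe) {a₀ c₀ : F}
    (hue : mat u = uni a₀ a₀ c₀) : 2 * c₀ = a₀ * a₀ := by
  classical
  haveI : Fintype F := Fintype.ofFinite F
  have hp := (Fact.out : p.Prime)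
  have hp3 : 3 ≤ p := by have := hp.two_le; have := R.pre.odd; omega
  let A : AddSubgroup F :=
    { carrier := {a | ∃ c, ∃ v ∈ P, mat v = uni a a c}
      zero_mem' := ⟨0, 1, one_mem P, by rw [uni_zero]; exact Units.val_one⟩
      add_mem' := fun {a b} ⟨c, v, hv, e⟩ ⟨d, w, hw, e'⟩ =>
        ⟨d + a * b + c, v * w, mul_mem hv hw, by rw [mat_mul, e, e', uni_mul]⟩
      neg_mem' := fun {a} ⟨c, v, hv, e⟩ => by
        refine ⟨(-a) * (-a) - c, v⁻¹, inv_mem hv, ?_⟩
        rw [inv_uni e]; congr 1; ring }
  have h1A : (1 : F) ∈ A := by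
    obtain ⟨v, hv, c, e⟩ := R.pre.elem
    exact ⟨c, v, hv, e⟩
  have hinjA : ∀ {v w : G3} {a c c' : F}, v ∈ P → w ∈ P → mat v = uni a a c → mat w = uni a a c' → c = c' := by
    intro v w a c c' hv hw e e'
    by_contra hne
    have hm : mat (v * w⁻¹) = uni (0 : F) 0 (c - c') := by
      rw [mat_mul, e, inv_uni e', uni_mul]; congr 1 <;> ring
    refine R.pre.param_ne (Subgroup.mem_inf.2 ⟨P.mul_mem hv (P.inv_mem hw), 0, _, hm⟩) (fun e1 => hne ?_) hm rfl
    rw [e1] at hm
    have := congrFun (congrFun hm 0) 2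
    simp [uni, mat] at this
    exact sub_eq_zero.1 this.symm
  choose cf hcf using fun a : A => a.2
  set ell : A → F := fun a => 2 * cf a - (a : F) * a with hell
  have cfd : ∀ {v : G3} {a c : F} (ha : a ∈ A), v ∈ P → mat v = uni a a c → cf ⟨a, ha⟩ = c := by
    intro v a c ha hv e
    obtain ⟨w, hw, e'⟩ := hcf ⟨a, ha⟩
    exact hinjA hw hv e' e
  have ladd : ∀ a b : A, ell (a + b) = ell a + ell b := by
    intro a b
    obtain ⟨v, hv, e⟩ := hcf a
    obtain ⟨w, hw, e'⟩ := hcf b
    have := cfd (c := cf b + (a : F) * b + cf a) (a + b).2 (mul_mem hv hw) (by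
      rw [mat_mul, e, e', uni_mul]; rfl)
    simp only [hell, AddSubgroup.coe_add]
    rw [show cf (a + b) = _ from this]
    ring
  have hhu : ∀ (v : G3) (a c : F), v ∈ P → mat v = uni a a c →
      mat (h * v * h⁻¹) = uni (χ * a) (χ * a) (χ ^ 2 * c) := by
    intro v a c hv e
    have hy0 : y ≠ 0 := fun e => by simpa [e] using R.hy
    have h1 : uni (χ * a) (χ * a) (χ ^ 2 * c) * mat h = mat h * mat v := by
      rw [R.diag, e]
      ext i j
      have := R.χ0
      fin_cases i <;> fin_cases j <;> simp [uni] <;> field_simp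
    calc mat (h * v * h⁻¹) = uni (χ * a) (χ * a) (χ ^ 2 * c) * mat h * mat h⁻¹ := by
          rw [mat_mul, mat_mul, h1]
      _ = _ := by rw [mul_assoc, mat_mul_inv, mul_one]
  have hχA : ∀ a ∈ A, χ * a ∈ A := fun a ha => by
    obtain ⟨v, hv, e⟩ := hcf ⟨a, ha⟩
    exact ⟨_, _, mul_mem (mul_mem R.mem.1 hv) (inv_mem R.mem.1), hhu v a _ hv e⟩
  have lχ : ∀ a : A, ell ⟨χ * a, hχA a a.2⟩ = χ ^ 2 * ell a := by
    intro a
    obtain ⟨v, hv, e⟩ := hcf a
    have := cfd (hχA a a.2) (mul_mem (mul_mem R.mem.1 hv) (inv_mem R.mem.1)) (hhu v _ _ hv e)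
    simp only [hell]
    rw [this]
    ring
  by_contra hne
  have ha₀ : a₀ ∈ A := ⟨c₀, u, hu.1, hue⟩
  have hl0 : ell ⟨a₀, ha₀⟩ ≠ 0 := by
    simp only [hell]
    rw [cfd ha₀ hu.1 hue]
    exact sub_ne_zero.2 hne
  -- the least Frobenius period of the ratio
  have hex : ∃ d, 0 < d ∧ χ ^ p ^ d = χ := by
    obtain ⟨k, -, hk⟩ := FiniteField.card F p
    exact ⟨k, k.2, by rw [← hk, FiniteField.pow_card]⟩
  set d := Nat.find hex with hd
  obtain ⟨hd0, hdχ⟩ := Nat.find_spec hex
  have hdn : d ≤ n := by
    let K : Subfield F :=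
      { carrier := {k | ∀ a ∈ A, k * a ∈ A}
        zero_mem' := fun a _ => by rw [zero_mul]; exact zero_mem A
        one_mem' := fun a ha => by rwa [one_mul]
        add_mem' := fun {k l} hk hl a ha => by rw [add_mul]; exact add_mem (hk a ha) (hl a ha)
        neg_mem' := fun {k} hk a ha => by rw [neg_mul]; exact neg_mem (hk a ha)
        mul_mem' := fun {k l} hk hl a ha => by rw [mul_assoc]; exact hk _ (hl a ha)
        inv_mem' := fun k hk => by
          by_cases hk0 : k = 0
          · simp only [hk0, _root_.inv_zero]; intro a _; rw [zero_mul]; exact zero_mem A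
          have hpow : ∀ m : ℕ, ∀ a ∈ A, k ^ m * a ∈ A := by
            intro m
            induction m with
            | zero => intro a ha; rwa [pow_zero, one_mul]
            | succ m ih => intro a ha; rw [pow_succ, mul_assoc]; exact ih _ (hk a ha)
          have h3 := FiniteField.pow_card_sub_one_eq_one k hk0
          have hcard : 2 ≤ Fintype.card F := Fintype.one_lt_card
          rw [show Fintype.card F - 1 = Fintype.card F - 2 + 1 by omega, pow_succ] at h3
          rw [inv_eq_of_mul_eq_one_left h3]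
          exact hpow _ }
    have hχK : χ ∈ K := hχA
    haveI : Fintype K := Fintype.ofFinite K
    obtain ⟨k, -, hk⟩ := FiniteField.card K p
    have h1 : χ ^ p ^ (k : ℕ) = χ := by
      have := congrArg (Subtype.val : K → F) (FiniteField.pow_card (⟨χ, hχK⟩ : K))
      rwa [hk] at this
    have h2 : d ≤ k := Nat.find_le ⟨k.2, h1⟩
    have hKA : Nat.card K ≤ Nat.card A := by
      refine Nat.card_le_card_of_injective (fun x => ⟨x.1, by have := x.2 1 h1A; rwa [mul_one] at this⟩) ?_
      intro x x' e
      exact Subtype.ext (by simpa using congrArg Subtype.val e)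
    have hAQ : Nat.card A ≤ p ^ n := by
      rw [← R.card]
      choose v hv hve using hcf
      refine Nat.card_le_card_of_injective (fun a => ⟨v a, hv a, a, cf a, hve a⟩) ?_
      intro a a' e
      have e' : v a = v a' := congrArg Subtype.val e
      exact Subtype.ext (param_eq (hve a) (e' ▸ hve a')).1
    rw [Nat.card_eq_fintype_card, hk] at hKA
    exact h2.trans ((Nat.pow_le_pow_iff_right hp.one_lt).1 (hKA.trans hAQ))
  -- the square of the ratio is a conjugate
  obtain ⟨i, hid, hi⟩ : ∃ i < d, χ ^ 2 = χ ^ p ^ i := by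
    set f : Polynomial F := ∏ i ∈ Finset.range d, (Polynomial.X - Polynomial.C (χ ^ p ^ i)) with hf
    have hfix : ∀ k, f.coeff k ^ p = f.coeff k := by
      intro k
      have e : f.map (frobenius F p) = f := by
        rw [hf, Polynomial.map_prod]
        simp only [Polynomial.map_sub, Polynomial.map_X, Polynomial.map_C, frobenius_def, ← pow_mul, ← pow_succ]
        obtain ⟨m, hm⟩ : ∃ m, d = m + 1 := ⟨d - 1, by omega⟩
        rw [hm, Finset.prod_range_succ (fun i => Polynomial.X - Polynomial.C (χ ^ p ^ (i + 1))) m,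
          Finset.prod_range_succ' (fun i => Polynomial.X - Polynomial.C (χ ^ p ^ i)) m]
        congr 2
        rw [← hm, hdχ, pow_zero, pow_one]
      conv_rhs => rw [← e]
      rw [Polynomial.coeff_map, frobenius_def]
    have hnat : ∀ k, ∃ m : ℕ, f.coeff k = m := fun k => by
      obtain ⟨z, hz⟩ := (Subfield.mem_bot_iff_pow_eq_self (F := F) (p := p)).2 (hfix k) |>
        fun hmem => (by
          have hle : (⊥ : Subfield F) ≤ (ZMod.castHom (dvd_refl p) F).fieldRange := bot_le
          exact hle hmem : f.coeff k ∈ (ZMod.castHom (dvd_refl p) F).fieldRange)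
      refine ⟨z.val, ?_⟩
      rw [← hz, ZMod.castHom_apply, ZMod.natCast_val]
    choose m hm using hnat
    have hpowA : ∀ k, ∀ a ∈ A, χ ^ k * a ∈ A := by
      intro k
      induction k with
      | zero => intro a ha; rwa [pow_zero, one_mul]
      | succ k ih => intro a ha; rw [pow_succ', mul_assoc]; exact hχA _ (ih a ha)
    have lpow : ∀ k, ell ⟨χ ^ k * a₀, hpowA k a₀ ha₀⟩ = (χ ^ 2) ^ k * ell ⟨a₀, ha₀⟩ := by
      intro k
      induction k with
      | zero => simp
      | succ k ih =>
        rw [show (⟨χ ^ (k + 1) * a₀, hpowA (k + 1) a₀ ha₀⟩ : A) = ⟨χ * (⟨χ ^ k * a₀, hpowA k a₀ ha₀⟩ : A), hχA _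
          (hpowA k a₀ ha₀)⟩ from Subtype.ext (by simp [pow_succ', mul_assoc]), lχ, ih]
        ring
    let L : A →+ F := AddMonoidHom.mk' ell ladd
    have hz : f.eval χ = 0 := by
      rw [hf, Polynomial.eval_prod]
      exact Finset.prod_eq_zero (Finset.mem_range.2 hd0) (by simp)
    have key : f.eval (χ ^ 2) * ell ⟨a₀, ha₀⟩ = 0 := by
      have h0 : (∑ k ∈ Finset.range (f.natDegree + 1), m k • (⟨χ ^ k * a₀, hpowA k a₀ ha₀⟩ : A)) = 0 := by
        refine Subtype.ext ?_
        rw [AddSubmonoidClass.coe_finset_sum]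
        have hz' := hz
        rw [Polynomial.eval_eq_sum_range] at hz'
        simp only [AddSubmonoidClass.coe_nsmul, nsmul_eq_mul, ZeroMemClass.coe_zero, ← hm, ← mul_assoc,
          ← Finset.sum_mul, hz', zero_mul]
      have h1 := congrArg L h0
      rw [map_sum, map_zero] at h1
      simp only [map_nsmul] at h1
      rw [Polynomial.eval_eq_sum_range, Finset.sum_mul, ← h1]
      refine Finset.sum_congr rfl fun k _ => ?_
      show _ = m k • ell _
      rw [lpow, nsmul_eq_mul, ← hm, mul_assoc]
    have h0 := (mul_eq_zero.1 key).resolve_right hl0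
    rw [hf, Polynomial.eval_prod, Finset.prod_eq_zero_iff] at h0
    obtain ⟨i, hi, hi'⟩ := h0
    exact ⟨i, Finset.mem_range.1 hi, sub_eq_zero.1 (by simpa using hi')⟩
  have hi0 : i ≠ 0 := by
    intro e
    rw [e, pow_zero, pow_one, pow_two] at hi
    exact R.χ1 (mul_left_cancel₀ R.χ0 (by rw [hi, mul_one]))
  -- the two relations
  have hpi : 3 ≤ p ^ i := hp3.trans (Nat.le_self_pow hi0 p)
  have rel1 : χ ^ (p ^ i - 2) = 1 := by
    refine mul_right_cancel₀ (pow_ne_zero 2 R.χ0) ?_
    rw [← pow_add, Nat.sub_add_cancel (by omega), ← hi, one_mul]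
  set j := d - i with hj
  have hpj : 1 ≤ p ^ j := Nat.one_le_pow _ _ hp.pos
  have rel2 : χ ^ (2 * p ^ j - 1) = 1 := by
    refine mul_right_cancel₀ R.χ0 ?_
    rw [← pow_succ, Nat.sub_add_cancel (by omega), pow_mul, hi, ← pow_mul, ← pow_add,
      show i + j = d by omega, hdχ, one_mul]
  obtain ⟨i', rfl⟩ := Nat.exists_eq_succ_of_ne_zero hi0
  -- the lists
  set L₁ := List.replicate (p - 2) 0 ++ ((List.range i').flatMap fun k => List.replicate (p - 1) (k + 1)) with hL₁
  set L₂ := j :: ((List.range j).flatMap fun k => List.replicate (p - 1) k) with hL₂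
  have hlen1 : L₁.length + 1 = (i' + 1) * (p - 1) := by
    rw [hL₁, List.length_append, List.length_replicate, List.length_flatMap]
    simp
    rw [add_mul, one_mul]
    omega
  have hlen2 : L₂.length = 1 + j * (p - 1) := by
    rw [hL₂, List.length_cons, (sum_digits (p := p) j).1]; omega
  have hsum1 : (L₁.map fun k => p ^ k).sum + 2 = p ^ (i' + 1) := by
    have e : (((List.range i').flatMap fun k => List.replicate (p - 1) (k + 1)).map fun k => p ^ k).sum =
        p * (((List.range i').flatMap fun k => List.replicate (p - 1) k).map fun k => p ^ k).sum := by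
      induction i' with
      | zero => simp
      | succ m ih =>
        rw [List.range_succ, List.flatMap_append, List.flatMap_append, List.map_append, List.map_append,
          List.sum_append, List.sum_append, mul_add]
        congr 1
        · clear * -
          induction m with
          | zero => simp
          | succ m ih =>
            rw [List.range_succ, List.flatMap_append, List.flatMap_append, List.map_append, List.map_append,
              List.sum_append, List.sum_append, mul_add, ih]
            simp [pow_succ]; ring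
        · simp [pow_succ]; ring
    rw [hL₁, List.map_append, List.sum_append, e, List.map_replicate, List.sum_replicate, pow_zero, smul_eq_mul,
      mul_one, pow_succ, ← (sum_digits (p := p) i').2]
    rw [add_mul, one_mul, mul_comm p]
    omega
  have hsum2 : (L₂.map fun k => p ^ k).sum + 1 = 2 * p ^ j := by
    rw [hL₂, List.map_cons, List.sum_cons, add_assoc, (sum_digits (p := p) j).2, two_mul]
  have hD : L₁.length + L₂.length ≤ n * (p - 1) := by
    have h3 : (i' + 1) * (p - 1) + j * (p - 1) ≤ n * (p - 1) := by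
      rw [← add_mul]; exact Nat.mul_le_mul_right _ (by omega)
    omega
  have hp1 : 2 ≤ p - 1 := by omega
  by_cases hA : 2 * L₁.length < n * (p - 1)
  · refine R.list_false L₁ ?_ ?_ hA ?_
    · intro e; rw [hL₁, List.append_eq_nil_iff, List.replicate_eq_nil_iff] at e; omega
    · rw [show (L₁.map fun k => p ^ k).sum = p ^ (i' + 1) - 2 by omega]; exact rel1
    · by_cases hl : L₁.length = 1
      · rw [hl] at hlen1
        exact Or.inl (le_antisymm (by
          have : (p - 1) ∣ 2 := ⟨i' + 1, by rw [mul_comm]; omega⟩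
          have := Nat.le_of_dvd two_pos this
          omega) hp3)
      · exact Or.inr hl
  by_cases hB : 2 * L₂.length < n * (p - 1)
  · refine R.list_false L₂ (by rw [hL₂]; simp) ?_ hB (Or.inr ?_)
    · rw [show (L₂.map fun k => p ^ k).sum = 2 * p ^ j - 1 by omega]; exact rel2
    · have : 1 * 1 ≤ j * (p - 1) := Nat.mul_le_mul (by omega) (by omega)
      omega
  have heq : L₁.length = L₂.length ∧ L₁.length + L₂.length = n * (p - 1) := by omega
  have hdn' : i' + 1 + j = d := by omega
  have h2i : (i' + 1) * (p - 1) = j * (p - 1) + 2 := by omega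
  have hp' : p = 3 ∧ i' + 1 = j + 1 := by
    have hle : j < i' + 1 := by
      by_contra hh
      have := Nat.mul_le_mul_right (p - 1) (not_lt.1 hh)
      omega
    obtain ⟨k, hk⟩ : ∃ k, i' + 1 = j + 1 + k := ⟨i' - j, by omega⟩
    rw [hk, add_mul, add_mul, one_mul] at h2i
    have hk0 : k = 0 := by
      by_contra hk0
      have := Nat.le_mul_of_pos_left (p - 1) (Nat.pos_of_ne_zero hk0)
      omega
    subst hk0
    exact ⟨by omega, by omega⟩
  obtain ⟨rfl, hij⟩ := hp'
  rw [show i'.succ = j + 1 from hij, pow_succ] at rel1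
  apply R.χ1
  have e1 : (χ ^ (3 ^ j * 3 - 2)) ^ 2 = 1 := by rw [rel1, one_pow]
  have e2 : (χ ^ (2 * 3 ^ j - 1)) ^ 3 = 1 := by rw [rel2, one_pow]
  rw [← pow_mul] at e1 e2
  rw [show (2 * 3 ^ j - 1) * 3 = (3 ^ j * 3 - 2) * 2 + 1 by omega, pow_succ, e1, one_mul] at e2
  exact e2

end Cfsg.Agent.ResidualThree.Regular
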