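import Cfsg.Agent.ResidualThree.Regular.Ell
import Cfsg.Agent.ResidualThree.Trace

/-!
Invariant forms: averages over the cosets of the Sylow normaliser.
-/

set_option autoImplicit false

namespace Cfsg.Agent.ResidualThree.Regular

open Matrix Cfsg.Geo Cfsg.Agent.PrimeDim Cfsg.Agent.ResidualThree
open scoped MatrixGroups

variable {F : Type*} [Field F] [Finite F] {P : Subgroup (GL (Fin 3) F)} {p n : ℕ} [Fact p.Prime] [CharP F p]
  {h : GL (Fin 3) F} {χ y : F}

local notation "G3" => GL (Fin 3) F
local notation "M3" => Matrix (Fin 3) (Fin 3) F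

/-- The form fixed by the Sylow subgroup. -/
def bone : M3 := !![0, 0, 1; 0, -1, 0; 1, 0, 0]

omit [Finite F] [Fact p.Prime] [CharP F p] in
theorem bone_det : (bone : M3).det = 1 := by
  simp [bone, Matrix.det_fin_three]

omit [Finite F] [Fact p.Prime] [CharP F p] in
theorem act_apply (σ : F ≃+* F) (G g : M3) (i j : Fin 3) :
    act σ G g i j = ∑ v : Fin 3 × Fin 3, g v.1 i * σ (g v.2 j) * G v.1 v.2 := by
  rw [Fintype.sum_prod_type, Finset.sum_comm]
  simp only [act, Matrix.mul_apply, Matrix.transpose_apply, Matrix.map_apply, Finset.sum_mul]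
  exact Finset.sum_congr rfl fun b _ => Finset.sum_congr rfl fun a _ => by ring

omit [Finite F] [Fact p.Prime] [CharP F p] in
theorem act_uni_bone {σ : F ≃+* F} {a c : F} (h2 : 2 * c = a * a) (ha : σ a = a) (hc : σ c = c) :
    act σ bone (uni a a c) = bone ∧ uni a a c * bone * (uni a a c)ᵀ = (bone : M3) := by
  constructor
  · ext i j
    fin_cases i <;> fin_cases j <;>
      simp [act, bone, uni, Matrix.mul_apply, Fin.sum_univ_three, ha, hc] <;>
      linear_combination h2
  · ext i j
    fin_cases i <;> fin_cases j <;> simp [bone, uni, Matrix.mul_apply, Fin.sum_univ_three] <;>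
      linear_combination h2

omit [Finite F] [Fact p.Prime] [CharP F p] in
theorem act_diag_bone {σ : F ≃+* F} (hχ : σ χ = χ) (h0 : χ ≠ 0) :
    act σ bone (Matrix.diagonal ![y * χ, y, y / χ]) = (y * σ y) • (bone : M3) := by
  ext i j
  fin_cases i <;> fin_cases j <;>
    simp [act, bone, Matrix.mul_apply, Fin.sum_univ_three, hχ] <;> field_simp

omit [Finite F] [Fact p.Prime] [CharP F p] in
theorem act_one' (σ : F ≃+* F) (G : M3) : act σ G 1 = G := by
  simp [act]

omit [Finite F] [Fact p.Prime] [CharP F p] in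
theorem act_inv_of_smul {σ : F ≃+* F} {G : M3} {k : G3} {β : F} (hβ : β ≠ 0) (hk : act σ G (mat k) = β • G) :
    act σ G (mat k⁻¹) = β⁻¹ • G := by
  have h1 : act σ (act σ G (mat k)) (mat k⁻¹) = G := by rw [← act_mul, mat_mul_inv, act_one']
  rw [hk, act_smul] at h1
  conv_rhs => rw [← h1, smul_smul, inv_mul_cancel₀ hβ, one_smul]

/-- The translates of the form. -/
def fam (σ : F ≃+* F) (g : G3) : M3 := act σ bone (mat g⁻¹)

/-- The translates of the dual form. -/
def gfam (g : G3) : M3 := mat g * bone * (mat g)ᵀ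

omit [Finite F] [Fact p.Prime] [CharP F p] in
theorem fam_left (σ : F ≃+* F) (x g : G3) : fam σ (x * g) = act σ (fam σ g) (mat x⁻¹) := by
  rw [fam, fam, _root_.mul_inv_rev, mat_mul, act_mul]

omit [Finite F] [Fact p.Prime] [CharP F p] in
theorem fam_right (σ : F ≃+* F) {β : F} (hβ : β ≠ 0) {k : G3} (hk : act σ bone (mat k) = β • bone) (g : G3) :
    fam σ (g * k) = β⁻¹ • fam σ g := by
  rw [fam, fam, _root_.mul_inv_rev, mat_mul, act_mul, act_inv_of_smul hβ hk, act_smul]

omit [Finite F] [Fact p.Prime] [CharP F p] in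
theorem gfam_left (x g : G3) : gfam (x * g) = mat x * gfam g * (mat x)ᵀ := by
  simp only [gfam, mat_mul, Matrix.transpose_mul, mul_assoc]

omit [Finite F] [Fact p.Prime] [CharP F p] in
theorem gfam_right {β : F} {k : G3} (hk : mat k * bone * (mat k)ᵀ = β • bone) (g : G3) :
    gfam (g * k) = β • gfam g := by
  calc gfam (g * k) = mat g * (mat k * bone * (mat k)ᵀ) * (mat g)ᵀ := by
        simp only [gfam, mat_mul, Matrix.transpose_mul, mul_assoc]
    _ = _ := by rw [hk, gfam, Matrix.mul_smul, Matrix.smul_mul]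

omit [Finite F] [Fact p.Prime] [CharP F p] in
theorem fam_one (σ : F ≃+* F) : fam σ (1 : G3) = bone := by
  rw [fam, inv_one, show mat (1 : G3) = 1 from Units.val_one, act_one']

omit [Finite F] [Fact p.Prime] [CharP F p] in
theorem deg_fam (σ : F ≃+* F) (g : G3) (i j : Fin 3) :
    Deg ((i : ℕ) + j) (fun u : syl P => fam σ (((u : P) : G3) * g) i j) := by
  simp only [fam_left, act_apply]
  refine Deg.sum Finset.univ fun v _ => Deg.mul_const _ ?_
  exact Deg.mono ((deg_mat_inv (P := P) v.1 i).mul ((deg_mat_inv (P := P) v.2 j).map σ.toRingHom)) (by omega)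

omit [Finite F] [Fact p.Prime] [CharP F p] in
theorem deg_gfam (g : G3) (k l : Fin 3) :
    Deg ((2 - (k : ℕ)) + (2 - l)) (fun u : syl P => gfam (((u : P) : G3) * g) k l) := by
  simp only [gfam_left, Matrix.mul_apply (M := _ * _), Matrix.transpose_apply]
  refine Deg.sum Finset.univ fun b _ => ?_
  simp only [Matrix.mul_apply]
  refine Deg.mul (Deg.sum Finset.univ fun a _ => Deg.mul_const _ ?_) ?_
  · exact (deg_mat (P := P) k a).mono (by omega)
  · exact (deg_mat (P := P) l b).mono (by omega)

omit [Finite F] [Fact p.Prime] [CharP F p] in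
theorem mat_scalar_inv {s : G3} {μ : F} (hμ : mat s = μ • (1 : M3)) (h0 : μ ≠ 0) :
    mat s⁻¹ = μ⁻¹ • (1 : M3) := by
  calc mat s⁻¹ = mat s⁻¹ * (μ⁻¹ • mat s) := by rw [hμ, smul_smul, inv_mul_cancel₀ h0, one_smul, mul_one]
    _ = _ := by rw [Matrix.mul_smul, mat_inv_mul]

/-- An invariant form when the weights of the normaliser vanish. -/
theorem RFrame.exists_fixes (R : RFrame P p n h χ y) (σ : F ≃+* F)
    (hA : ∀ u ∈ P ⊓ toe, ∀ a c : F, mat u = uni a a c → σ a = a) (hχ : σ χ = χ) (hy : y * σ y = 1)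
    (hμ : ∀ μ : F, (∃ s ∈ P, mat s = μ • (1 : M3)) → μ * σ μ = 1) (hd : 4 ≤ n * (p - 1)) :
    ∃ G : M3, G.det ≠ 0 ∧ Fixes σ P G := by
  classical
  have h2 : (2 : F) ≠ 0 := Ring.two_ne_zero (by rw [ringChar.eq F p]; exact R.pre.odd)
  have hfix : ∀ k : G3, act σ bone (mat k) = bone → ∀ g : G3, fam σ (g * k) = fam σ g := fun k hk g => by
    rw [fam_right σ one_ne_zero (by rw [hk, one_smul]), inv_one, one_smul]
  have hinv : ∀ i j, ∀ g : P, ∀ k ∈ (Nrm P).subgroupOf P, fam σ ((g * k : P) : G3) i j = fam σ (g : G3) i j := by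
    intro i j
    refine R.invariant_of (f := fun g : P => fam σ (g : G3) i j) (fun g u hu => ?_) (fun g s hs => ?_) (fun g => ?_)
    · obtain ⟨a, c, e⟩ := hu.2
      have hc2 := R.two_c hu e
      have ha := hA u hu a c e
      have hc : σ c = c := by
        have := congrArg σ hc2
        rw [map_mul, map_mul, map_ofNat, ha, ← hc2] at this
        exact mul_left_cancel₀ h2 this
      simp only [Subgroup.coe_mul]
      rw [hfix _ (by rw [e]; exact (act_uni_bone hc2 ha hc).1)]
    · obtain ⟨μ, hμu⟩ := (mem_scalars_iff _).1 hs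
      have hμe : mat (s : G3) = (μ : F) • (1 : M3) := hμu
      simp only [Subgroup.coe_mul]
      rw [hfix _ (by rw [hμe, act_sc, hμ μ ⟨s, s.2, hμe⟩, one_smul, act_one'])]
    · simp only [Subgroup.coe_mul]
      rw [hfix h (by rw [R.diag, act_diag_bone hχ R.χ0, hy, one_smul])]
  set S : M3 := Matrix.of fun i j => cosetSum ((Nrm P).subgroupOf P) (fun g : P => fam σ (g : G3) i j) with hS
  have hSB : ∀ i j : Fin 3, (i : ℕ) + j < n * (p - 1) → S i j = bone i j := fun i j hij => by
    rw [hS, Matrix.of_apply, R.cosetSum_one (hinv i j) (fun g => by simpa using deg_fam (P := P) σ (g : G3) i j) hij]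
    simp [fam_one]
  refine ⟨S, ?_, fun x hx => ?_⟩
  · have e1 : ∀ i j : Fin 3, (i : ℕ) + j < 4 → S i j = bone i j := fun i j hij => hSB i j (by omega)
    rw [Matrix.det_fin_three, e1 0 0 (by decide), e1 0 1 (by decide), e1 0 2 (by decide), e1 1 0 (by decide),
      e1 1 1 (by decide), e1 1 2 (by decide), e1 2 0 (by decide), e1 2 1 (by decide)]
    simp [bone]
  · ext i j
    have h1 := cosetSum_left ((Nrm P).subgroupOf P) (f := fun g : P => fam σ (g : G3) i j) (hinv i j) ⟨x⁻¹, inv_mem hx⟩
    simp only [Subgroup.coe_mul, fam_left, inv_inv, act_apply, cosetSum_linear] at h1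
    rw [act_apply]
    exact h1

omit [Finite F] [Fact p.Prime] [CharP F p] in
/-- The pairing of matrices. -/
def pair (A X : M3) : F := ∑ v : Fin 3 × Fin 3, X v.1 v.2 * A v.1 v.2

omit [Finite F] [Fact p.Prime] [CharP F p] in
theorem pair_eq_trace (A X : M3) : pair A X = (Aᵀ * X).trace := by
  simp only [pair, Matrix.trace, Matrix.diag, Matrix.mul_apply, Matrix.transpose_apply, Fintype.sum_prod_type]
  rw [Finset.sum_comm]
  exact Finset.sum_congr rfl fun b _ => Finset.sum_congr rfl fun a _ => mul_comm _ _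

omit [Finite F] [Fact p.Prime] [CharP F p] in
theorem pair_conj (A X x : M3) : pair (x * A * xᵀ) X = pair A (xᵀ * X * x) := by
  rw [pair_eq_trace, pair_eq_trace, Matrix.transpose_mul, Matrix.transpose_mul, Matrix.transpose_transpose]
  simp only [mul_assoc]
  rw [Matrix.trace_mul_comm]
  simp only [mul_assoc]

/-- A large Sylow subgroup forces an invariant form. -/
theorem RFrame.exists_fixes_large (R : RFrame P p n h χ y) (h3 : (3 : F) ≠ 0) (hd : 6 ≤ n * (p - 1)) :
    ∃ G : M3, G.det ≠ 0 ∧ Fixes (RingEquiv.refl F) P G := by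
  classical
  set σ := RingEquiv.refl F with hσ
  set N := (Nrm P).subgroupOf P with hN
  have hy0 : y ≠ 0 := fun e => by simpa [e] using R.hy
  have hright : ∀ k : G3, ∀ β : F, β ≠ 0 → act σ bone (mat k) = β • bone →
      mat k * bone * (mat k)ᵀ = β • bone → ∀ (g : G3) (i j k' l : Fin 3),
        fam σ (g * k) i j * gfam (g * k) k' l = fam σ g i j * gfam g k' l := by
    intro k β hβ h1 h2 g i j k' l
    rw [fam_right σ hβ h1, gfam_right h2]
    simp only [Matrix.smul_apply, smul_eq_mul]
    field_simp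
  have hinv : ∀ i j k l, ∀ g : P, ∀ a ∈ N,
      fam σ ((g * a : P) : G3) i j * gfam ((g * a : P) : G3) k l = fam σ (g : G3) i j * gfam (g : G3) k l := by
    intro i j k l
    refine R.invariant_of (f := fun g : P => fam σ (g : G3) i j * gfam (g : G3) k l) (fun g u hu => ?_)
      (fun g s hs => ?_) (fun g => ?_)
    · obtain ⟨a, c, e⟩ := hu.2
      obtain ⟨e1, e2⟩ := act_uni_bone (σ := σ) (R.two_c hu e) rfl rfl
      simp only [Subgroup.coe_mul]
      exact hright _ 1 one_ne_zero (by rw [e, one_smul, e1]) (by rw [e, one_smul, e2]) _ _ _ _ _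
    · obtain ⟨μ, hμu⟩ := (mem_scalars_iff _).1 hs
      have hμe : mat (s : G3) = (μ : F) • (1 : M3) := hμu
      simp only [Subgroup.coe_mul]
      refine hright _ ((μ : F) * μ) (mul_ne_zero μ.ne_zero μ.ne_zero) ?_ ?_ _ _ _ _ _
      · rw [hμe, act_sc, act_one']; rfl
      · simp [hμe, smul_smul]
    · simp only [Subgroup.coe_mul]
      refine hright h (y * y) (mul_ne_zero hy0 hy0) ?_ ?_ _ _ _ _ _
      · rw [R.diag, act_diag_bone (y := y) (σ := σ) rfl R.χ0]; rfl
      · have e := act_diag_bone (y := y) (σ := σ) (rfl : σ χ = χ) R.χ0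
        rw [R.diag, Matrix.diagonal_transpose]
        simpa [act, hσ] using e
  set T : Fin 3 → Fin 3 → Fin 3 → Fin 3 → F := fun i j k l =>
    cosetSum N (fun g : P => fam σ (g : G3) i j * gfam (g : G3) k l) with hT
  -- translation by the torus
  have hwt : ∀ i j k l : Fin 3,
      T i j k l * χ ^ ((k : ℕ) + l) = χ ^ ((i : ℕ) + j) * T i j k l := by
    intro i j k l
    set d : Fin 3 → F := ![y * χ, y, y / χ] with hdd
    have hd0 : ∀ i, d i ≠ 0 := fun i => by
      fin_cases i <;> simp [hdd, hy0, R.χ0]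
    have hinvd : mat h⁻¹ = Matrix.diagonal fun i => (d i)⁻¹ := by
      have e : mat h * Matrix.diagonal (fun i => (d i)⁻¹) = 1 := by
        rw [R.diag, Matrix.diagonal_mul_diagonal, ← Matrix.diagonal_one]
        congr 1
        funext i
        exact mul_inv_cancel₀ (hd0 i)
      calc mat h⁻¹ = mat h⁻¹ * (mat h * Matrix.diagonal fun i => (d i)⁻¹) := by rw [e, mul_one]
        _ = _ := by rw [← mul_assoc, mat_inv_mul, one_mul]
    have hχd : ∀ i : Fin 3, d i * χ ^ (i : ℕ) = y * χ := fun i => by
      have := R.χ0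
      fin_cases i <;> simp [hdd] <;> field_simp
    have h1 := cosetSum_left N (f := fun g : P => fam σ (g : G3) i j * gfam (g : G3) k l) (hinv i j k l) ⟨h, R.mem.1⟩
    have e : (fun g : P => fam σ ((⟨h, R.mem.1⟩ * g : P) : G3) i j * gfam ((⟨h, R.mem.1⟩ * g : P) : G3) k l) =
        fun g : P => ∑ _x : Unit, ((d i)⁻¹ * (d j)⁻¹ * (d k * d l)) * (fam σ (g : G3) i j * gfam (g : G3) k l) := by
      funext g
      simp only [Subgroup.coe_mul, fam_left, gfam_left, hinvd, R.diag]
      simp [act, hσ, Matrix.mul_diagonal, Matrix.diagonal_mul, Matrix.diagonal_transpose, hdd]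
      ring
    rw [e, cosetSum_linear] at h1
    simp only [Finset.univ_unique, Finset.sum_singleton] at h1
    change _ * T i j k l = T i j k l at h1
    have hi := hχd i; have hj := hχd j; have hk := hχd k; have hl := hχd l
    have := hd0 i; have := hd0 j
    field_simp at h1
    have hne : (y * χ) * (y * χ) ≠ 0 := by simp [hy0, R.χ0]
    refine mul_left_cancel₀ hne ?_
    calc (y * χ) * (y * χ) * (T i j k l * χ ^ ((k : ℕ) + l))
        = (d i * χ ^ (i : ℕ)) * (d j * χ ^ (j : ℕ)) * (T i j k l * χ ^ ((k : ℕ) + l)) := by rw [hi, hj]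
      _ = χ ^ (i : ℕ) * χ ^ (j : ℕ) * χ ^ ((k : ℕ) + l) * (d i * d j * T i j k l) := by ring
      _ = χ ^ (i : ℕ) * χ ^ (j : ℕ) * χ ^ ((k : ℕ) + l) * (d k * d l * T i j k l) := by rw [← h1]
      _ = (d k * χ ^ (k : ℕ)) * (d l * χ ^ (l : ℕ)) * (χ ^ ((i : ℕ) + j) * T i j k l) := by rw [pow_add, pow_add]; ring
      _ = _ := by rw [hk, hl]
  have hval : ∀ i j k l : Fin 3, (i : ℕ) + j + 4 ≤ 6 + k + l → T i j k l = bone i j * bone k l := by
    intro i j k l hle
    have := k.isLt; have := l.isLt
    by_cases hlt : (i : ℕ) + j + ((2 - (k : ℕ)) + (2 - l)) < n * (p - 1)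
    · rw [hT]
      simp only
      rw [R.cosetSum_one (hinv i j k l) (fun g => ?_) hlt]
      · simp [fam_one, gfam, mat]
      · exact Deg.mul (by simpa using deg_fam (P := P) σ (g : G3) i j)
          (by simpa using deg_gfam (P := P) (g : G3) k l)
    · have hz : bone i j * bone k l = (0 : F) := by
        have : (i : ℕ) + j = k + l + 2 := by omega
        have hb : ∀ a b : Fin 3, (bone : M3) a b = 0 ∨ (a : ℕ) + b = 2 := by
          intro a b; fin_cases a <;> fin_cases b <;> simp [bone]
        rcases hb i j with e | e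
        · rw [e, zero_mul]
        rcases hb k l with e' | e'
        · rw [e', mul_zero]
        omega
      rw [hz]
      have h1 := hwt i j k l
      rw [show (i : ℕ) + j = k + l + 2 by omega, pow_add] at h1
      have h2 : χ ^ ((k : ℕ) + l) * (χ ^ 2 - 1) * T i j k l = 0 := by linear_combination -h1
      exact (mul_eq_zero.1 h2).resolve_left
        (mul_ne_zero (pow_ne_zero _ R.χ0) (sub_ne_zero.2 (R.sq_ne_one (by omega))))
  -- the linear map
  let L : M3 → M3 := fun X => Matrix.of fun i j => ∑ v : Fin 3 × Fin 3, X v.1 v.2 * T i j v.1 v.2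
  have hLsum : ∀ X i j, L X i j = cosetSum N (fun g : P => fam σ (g : G3) i j * pair (gfam (g : G3)) X) := by
    intro X i j
    simp only [L, hT, Matrix.of_apply]
    rw [← cosetSum_linear]
    congr 1
    funext g
    rw [pair, Finset.mul_sum]
    exact Finset.sum_congr rfl fun v _ => by ring
  have hequiv : ∀ x ∈ P, ∀ X, act σ (L (act σ X (mat x))) (mat x⁻¹) = L X := by
    intro x hx X
    ext i j
    have hi : ∀ g : P, ∀ a ∈ N, fam σ ((g * a : P) : G3) i j * pair (gfam ((g * a : P) : G3)) X =
        fam σ (g : G3) i j * pair (gfam (g : G3)) X := fun g a ha => by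
      simp only [pair, Finset.mul_sum]
      refine Finset.sum_congr rfl fun v _ => ?_
      rw [mul_left_comm, hinv i j v.1 v.2 g a ha, mul_left_comm]
    rw [hLsum, ← cosetSum_left N hi ⟨x, hx⟩, act_apply]
    simp only [hLsum]
    rw [← cosetSum_linear]
    congr 1
    funext g
    simp only [Subgroup.coe_mul, fam_left, gfam_left, pair_conj, act_apply, Finset.sum_mul]
    refine Finset.sum_congr rfl fun v _ => ?_
    rw [show (mat x)ᵀ * X * mat x = act σ X (mat x) from by simp [act, hσ]]
    ring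
  have hequiv' : ∀ x ∈ P, ∀ X, act σ (L X) (mat x) = L (act σ X (mat x)) := fun x hx X => by
    rw [← hequiv x hx X, ← act_mul, mat_inv_mul, act_one']
  have hlow : ∀ X (i j : Fin 3), (i : ℕ) + j ≤ 2 → L X i j = pair bone X * bone i j := by
    intro X i j hij
    simp only [L, Matrix.of_apply, pair, Finset.sum_mul]
    refine Finset.sum_congr rfl fun v _ => ?_
    rw [hval i j v.1 v.2 (by omega)]
    ring
  have hLB : L bone = (3 : F) • bone := by
    have hb : ∀ v : Fin 3 × Fin 3, (bone : M3) v.1 v.2 = 0 ∨ (v.1 : ℕ) + v.2 = 2 := by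
      rintro ⟨a, b⟩; fin_cases a <;> fin_cases b <;> simp [bone]
    ext i j
    have hij : (i : ℕ) + j ≤ 4 := by omega
    simp only [L, Matrix.of_apply, Matrix.smul_apply, smul_eq_mul]
    rw [Finset.sum_congr rfl fun v _ => show bone v.1 v.2 * T i j v.1 v.2 =
        bone v.1 v.2 * bone v.1 v.2 * bone i j from (hb v).elim (fun e => by simp [e]) fun e => by
          rw [hval i j v.1 v.2 (by omega)]; ring, ← Finset.sum_mul]
    congr 1
    simp [bone, Fintype.sum_prod_type, Fin.sum_univ_three]
    norm_num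
  have hL2 : ∀ X, L X = pair bone X • bone := by
    intro X
    set X' : M3 := X - (pair bone X / 3) • bone with hX'
    have hlin : L X' = L X - pair bone X • bone := by
      have : L X' = L X - (pair bone X / 3) • L bone := by
        ext i j
        simp only [hX', L, Matrix.sub_apply, Matrix.smul_apply, Matrix.of_apply, smul_eq_mul, Finset.mul_sum,
          ← Finset.sum_sub_distrib]
        exact Finset.sum_congr rfl fun v _ => by ring
      rw [this, hLB, smul_smul, div_mul_cancel₀ _ h3]
    have hz : ∀ Y : M3, (L Y).det = 0 → ∀ l, L Y l 0 = 0 := by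
      intro Y hY
      have e1 := hlow Y
      generalize pair bone Y = a at e1
      rw [Matrix.det_fin_three, e1 0 0 (by decide), e1 0 1 (by decide), e1 0 2 (by decide), e1 1 0 (by decide),
        e1 1 1 (by decide), e1 2 0 (by decide)] at hY
      simp [bone] at hY
      intro l
      rw [e1 l 0 (by omega), hY, zero_mul]
    have hd0 : (L X').det = 0 := by
      have e1 : ∀ i j : Fin 3, (i : ℕ) + j ≤ 2 → L X' i j = 0 := fun i j hij => by
        rw [hlin, Matrix.sub_apply, hlow X i j hij, Matrix.smul_apply, smul_eq_mul, sub_self]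
      rw [Matrix.det_fin_three, e1 0 0 (by decide), e1 0 1 (by decide), e1 0 2 (by decide)]
      ring
    have hker : ∀ v : Fin 3 → F, L X' *ᵥ v = 0 := by
      intro v
      have hv : v ∈ Submodule.span F ((fun g : G3 => mat g *ᵥ (Pi.single 0 1 : Fin 3 → F)) '' (P : Set G3)) :=
        exists_translates R.pre.core.irr (a := Pi.single 0 1) (by simp) ▸ Submodule.mem_top
      induction hv using Submodule.span_induction with
      | mem v hv =>
        obtain ⟨x, hx, rfl⟩ := hv
        have h1 : act σ (L X') (mat x) *ᵥ (Pi.single 0 1 : Fin 3 → F) = 0 := by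
          rw [hequiv' x hx]
          funext l
          rw [Matrix.mulVec_single_one, Matrix.col_apply]
          refine hz _ ?_ l
          rw [← hequiv' x hx]
          simp [act, Matrix.det_mul, hd0]
        have h2 : L X' *ᵥ (mat x *ᵥ (Pi.single 0 1 : Fin 3 → F)) =
            (mat x⁻¹)ᵀ *ᵥ (act σ (L X') (mat x) *ᵥ (Pi.single 0 1 : Fin 3 → F)) := by
          rw [Matrix.mulVec_mulVec, Matrix.mulVec_mulVec]
          congr 1
          simp only [act, hσ, RingEquiv.coe_refl, Matrix.map_id]
          rw [← mul_assoc, ← mul_assoc, ← Matrix.transpose_mul, mat_mul_inv, Matrix.transpose_one, one_mul]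
        simp only [h2, h1, Matrix.mulVec_zero]
      | zero => exact Matrix.mulVec_zero _
      | add a b _ _ ha hb => rw [Matrix.mulVec_add, ha, hb, add_zero]
      | smul c a _ ha => rw [Matrix.mulVec_smul, ha, smul_zero]
    have hX0 : L X' = 0 := Matrix.ext fun a b => by
      have := congrFun (hker (Pi.single b 1)) a
      simpa using this
    exact sub_eq_zero.1 (hlin ▸ hX0)
  -- semi-invariance, hence invariance
  have hb : ∀ x : P, ∃ c : F, act σ bone (mat (x : G3)) = c • bone := fun x => by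
    refine ⟨pair bone (act σ bone (mat (x : G3))) / 3, ?_⟩
    have h1 := hequiv' x x.2 bone
    rw [hLB, act_smul, hL2] at h1
    rw [div_eq_inv_mul, ← smul_smul, ← h1, smul_smul, inv_mul_cancel₀ h3, one_smul]
  choose c hc using hb
  have hc' : ∀ (x : P) (d : F), act σ bone (mat (x : G3)) = d • bone → c x = d := fun x d hd => by
    have := congrFun (congrFun ((hc x).symm.trans hd) 0) 2
    simpa [bone] using this
  have hc0 : ∀ x, c x ≠ 0 := fun x e => by
    have h1 := act_inv (σ := σ) (G := bone) ((x : G3)⁻¹)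
    have := congrArg Matrix.det (hc x)
    rw [e, zero_smul, Matrix.det_zero] at this
    simp [act, Matrix.det_mul, bone_det, hσ, det_mat_ne_zero] at this
  let φ : P →* Fˣ :=
    { toFun := fun x => Units.mk0 (c x) (hc0 x)
      map_one' := Units.ext (hc' 1 1 (by simp [mat, act]))
      map_mul' := fun a b => Units.ext (hc' (a * b) (c a * c b) (by
        rw [Subgroup.coe_mul, mat_mul, act_mul, hc, act_smul, hc, smul_smul])) }
  refine ⟨bone, by rw [bone_det]; exact one_ne_zero, fun x hx => ?_⟩
  have h1 : c ⟨x, hx⟩ = 1 := congrArg Units.val (inv_eq_one_of_hom R.pre.core.perfect φ ⟨x, hx⟩)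
  rw [hc ⟨x, hx⟩, h1, one_smul]

end Cfsg.Agent.ResidualThree.Regular
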