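import Cfsg.Agent.ResidualThree.Regular.Sylow

/-!
The normaliser of the Sylow subgroup: upper triangular, with a diagonal generator over the kernel.
-/

set_option autoImplicit false

namespace Cfsg.Agent.ResidualThree.Regular

open Matrix Cfsg.Geo Cfsg.Agent.PrimeDim Cfsg.Agent.ResidualThree
open scoped MatrixGroups

variable {F : Type*} [Field F] [Finite F] {P : Subgroup (GL (Fin 3) F)} {p : ℕ} [Fact p.Prime] [CharP F p]

local notation "G3" => GL (Fin 3) F
local notation "M3" => Matrix (Fin 3) (Fin 3) F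

/-- The normaliser of the Sylow subgroup in the group. -/
def Nrm (P : Subgroup G3) : Subgroup G3 :=
  P ⊓ Subgroup.normalizer ((P ⊓ toe : Subgroup G3) : Set G3)

omit [Finite F] in
theorem toe_le_nrm (P : Subgroup G3) : P ⊓ toe ≤ Nrm P := le_inf inf_le_left Subgroup.le_normalizer

theorem Pre.param_ne (h : Pre P p) {u : G3} (hu : u ∈ P ⊓ toe) (hu1 : u ≠ 1) {a c : F}
    (he : mat u = uni a a c) : a ≠ 0 := by
  intro e
  refine h.notv _ (isTv_of_sq hu.1 hu1 ?_)
  rw [he, e, uni_sub_one]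
  ext i j
  fin_cases i <;> fin_cases j <;> simp [Matrix.mul_apply, Fin.sum_univ_three]

theorem mem_normalizer_of_map_le {Q : Subgroup G3} {g : G3} (h : ∀ w ∈ Q, g * w * g⁻¹ ∈ Q) :
    g ∈ Subgroup.normalizer (Q : Set G3) := by
  have hle : Q.map (MulAut.conj g).toMonoidHom ≤ Q := by
    rintro _ ⟨w, hw, rfl⟩
    exact h w hw
  have heq : Q.map (MulAut.conj g).toMonoidHom = Q :=
    Subgroup.eq_of_le_of_card_ge hle (Subgroup.card_map_of_injective (MulAut.conj g).injective).ge
  refine Subgroup.mem_normalizer_iff.2 fun w => ⟨h w, fun hw => ?_⟩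
  rw [← heq] at hw
  obtain ⟨x, hx, he⟩ := hw
  rwa [← (MulAut.conj g).injective (show MulAut.conj g x = MulAut.conj g w from he)]

/-- Different conjugates of the Sylow subgroup meet trivially. -/
theorem Pre.ti (h : Pre P p) {g u : G3} (hg : g ∈ P) (hu : u ∈ P ⊓ toe) (hu1 : u ≠ 1)
    (hv : g⁻¹ * u * g ∈ P ⊓ toe) : g ∈ Nrm P := by
  suffices hh : g⁻¹ ∈ Subgroup.normalizer ((P ⊓ toe : Subgroup G3) : Set G3) from
    ⟨hg, inv_inv g ▸ Subgroup.inv_mem _ hh⟩
  refine mem_normalizer_of_map_le fun w hw => ?_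
  rw [inv_inv]
  refine comm_toe_pelem (p := p) h.core h.notv h.odd hv ?_ (mul_mem (mul_mem (inv_mem hg) hw.1) hg) ?_ (j := 1) ?_
  · intro e
    apply hu1
    calc u = g * (g⁻¹ * u * g) * g⁻¹ := by group
      _ = 1 := by rw [e, mul_one, mul_inv_cancel]
  · calc g⁻¹ * w * g * (g⁻¹ * u * g) = g⁻¹ * (w * u) * g := by group
      _ = _ := by rw [toe_comm hw.2 hu.2]; group
  · have : g⁻¹ * w * g = g⁻¹ * w * (g⁻¹)⁻¹ := by rw [inv_inv]
    rw [pow_one, this, conj_pow, toe_pow p h.odd hw.2, mul_one, mul_inv_cancel]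

/-- The `p`-elements of the normaliser lie in the Sylow subgroup. -/
theorem Pre.pelem_nrm (h : Pre P p) {g : G3} (hg : g ∈ Nrm P) {k : ℕ} (hk : g ^ p ^ k = 1) : g ∈ P ⊓ toe := by
  have hp : IsPGroup p (Subgroup.zpowers g) := by
    intro x
    refine ⟨k, Subtype.ext ?_⟩
    obtain ⟨i, hi⟩ := Subgroup.mem_zpowers_iff.1 x.2
    rw [SubgroupClass.coe_pow, OneMemClass.coe_one, ← hi, ← zpow_natCast, ← _root_.zpow_mul, mul_comm, _root_.zpow_mul,
      zpow_natCast, hk, _root_.one_zpow]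
  have hsup : IsPGroup p (Subgroup.zpowers g ⊔ (P ⊓ toe) : Subgroup G3) :=
    hp.to_sup_of_normal_right' (toe_isPGroup h.odd P) (Subgroup.zpowers_le.2 hg.2)
  rw [← h.syl _ hsup (sup_le (Subgroup.zpowers_le.2 hg.1) inf_le_left) le_sup_right]
  exact Subgroup.mem_sup_left (Subgroup.mem_zpowers g)

theorem Pre.free (h : Pre P p) {g : G3} (hg : g ∈ P) (hgN : g ∉ Nrm P) {u : G3} (hu : u ∈ P ⊓ toe)
    (hv : g⁻¹ * u * g ∈ Nrm P) : u = 1 := by
  by_contra hu1
  refine hgN (h.ti hg hu hu1 (h.pelem_nrm hv (k := 1) ?_))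
  rw [pow_one, show g⁻¹ * u * g = g⁻¹ * u * (g⁻¹)⁻¹ by rw [inv_inv], conj_pow, toe_pow p h.odd hu.2, mul_one,
    mul_inv_cancel]

/-- The shape of an element of the normaliser. -/
theorem Pre.nrm_shape (h : Pre P p) {g : G3} (hg : g ∈ Nrm P) :
    ∃ χ y x w z : F, mat g = !![y * χ, x, z; 0, y, w; 0, 0, y / χ] ∧ χ ≠ 0 ∧ y ^ 3 = 1 := by
  obtain ⟨u, hu, c, hue⟩ := h.elem
  have hconj : g * u * g⁻¹ ∈ P ⊓ toe := (Subgroup.mem_normalizer_iff.1 hg.2 u).1 ⟨hu, 1, c, hue⟩
  obtain ⟨hcP, a, c', hce⟩ := hconj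
  have hne : g * u * g⁻¹ ≠ 1 := by
    intro e
    rw [mul_inv_eq_one, mul_eq_left] at e
    have := congrFun (congrFun (hue.symm.trans (congrArg mat e)) 0) 1
    simp [uni, mat] at this
  have ha : a ≠ 0 := h.param_ne ⟨hcP, a, c', hce⟩ hne hce
  have e : mat g * uni 1 1 c = uni a a c' * mat g := by
    rw [← hue, ← hce, ← mat_mul, ← mat_mul, inv_mul_cancel_right]
  have e00 := congrFun (congrFun e 0) 0
  have e01 := congrFun (congrFun e 0) 1
  have e10 := congrFun (congrFun e 1) 0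
  have e11 := congrFun (congrFun e 1) 1
  have e12 := congrFun (congrFun e 1) 2
  simp [uni, Matrix.mul_apply, Fin.sum_univ_three] at e00 e01 e10 e11 e12
  have g20 : mat g 2 0 = 0 := e10.resolve_left ha
  have g10 : mat g 1 0 = 0 :=
    (mul_eq_zero.1 (show a * mat g 1 0 = 0 by linear_combination -e00 - c' * g20)).resolve_left ha
  have g21 : mat g 2 1 = 0 :=
    (mul_eq_zero.1 (show a * mat g 2 1 = 0 by linear_combination -e11 + g10)).resolve_left ha
  have g00 : mat g 0 0 = mat g 1 1 * a := by linear_combination e01 + c' * g21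
  have g22 : mat g 2 2 = mat g 1 1 / a := by
    rw [eq_div_iff ha]; linear_combination -e12 + c * g10
  refine ⟨a, mat g 1 1, mat g 0 1, mat g 1 2, mat g 0 2, ?_, ha, ?_⟩
  · ext i j
    fin_cases i <;> fin_cases j <;> simp [g20, g10, g21, g00, g22]
  · have := h.core.det_eq_one hg.1
    rw [Matrix.det_fin_three, g20, g10, g21, g00, g22] at this
    simp at this
    field_simp at this
    linear_combination this

/-- The ratio of the first two diagonal entries. -/
def ratio (g : G3) : F := mat g 0 0 / mat g 1 1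

theorem ratio_eq {g : G3} {χ y x w z : F} (he : mat g = !![y * χ, x, z; 0, y, w; 0, 0, y / χ]) (hy : y ^ 3 = 1) :
    ratio g = χ := by
  have hy0 : y ≠ 0 := fun e => by simp [e] at hy
  simp [ratio, he, hy0]

theorem Pre.ratio_mul (h : Pre P p) {g k : G3} (hg : g ∈ Nrm P) (hk : k ∈ Nrm P) :
    ratio (g * k) = ratio g * ratio k := by
  obtain ⟨χ, y, x, w, z, he, hχ, hy⟩ := h.nrm_shape hg
  obtain ⟨χ', y', x', w', z', he', hχ', hy'⟩ := h.nrm_shape hk
  have hy0 : y ≠ 0 := fun e => by simp [e] at hy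
  have hy0' : y' ≠ 0 := fun e => by simp [e] at hy'
  rw [ratio_eq he hy, ratio_eq he' hy']
  simp [ratio, mat_mul, he, he', Matrix.mul_apply, Fin.sum_univ_three]
  field_simp

omit [Finite F] [Fact p.Prime] [CharP F p] in
theorem tri_cube (x w z : F) : (!![0, x, z; 0, 0, w; 0, 0, 0] : M3) ^ 3 = 0 := by
  ext i j
  fin_cases i <;> fin_cases j <;> simp [pow_succ, Matrix.mul_apply, Fin.sum_univ_three]

/-- A cube root of one times a unipotent element: the scalar is in the group. -/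
theorem recover_scalar (hp : p ≠ 2) {k : G3} (hk : k ∈ P) {μ : F} (hμ : μ ^ 3 = 1) {N : M3}
    (hN : N ^ 3 = 0) (he : mat k = μ • (1 + N)) : ∃ s ∈ P, mat s = μ • (1 : M3) := by
  have hp3 : 3 ≤ p := by have := (Fact.out : p.Prime).two_le; omega
  have hkp : mat (k ^ p) = μ ^ p • (1 : M3) := by rw [mat_pow, he, smul_pow, one_add_pow p hp hN]
  obtain ⟨j, hj⟩ : ∃ j : ℕ, (μ ^ p) ^ j = μ := by
    by_cases h3 : p = 3
    · refine ⟨0, ?_⟩
      subst h3
      have : (μ - 1) ^ 3 = 0 := by rw [sub_pow_char, hμ, one_pow, sub_self]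
      rw [pow_zero, eq_comm, ← sub_eq_zero]
      exact pow_eq_zero_iff (by norm_num : (3 : ℕ) ≠ 0) |>.1 this
    · refine ⟨p, ?_⟩
      rw [← pow_mul, ← Nat.div_add_mod (p * p) 3, pow_add, pow_mul, hμ, one_pow, one_mul]
      have hmod : p % 3 = 1 ∨ p % 3 = 2 := by
        have : ¬ 3 ∣ p := fun hd => h3 ((Nat.prime_dvd_prime_iff_eq Nat.prime_three Fact.out).1 hd).symm
        omega
      rcases hmod with e | e <;> simp [Nat.mul_mod, e]
  exact ⟨(k ^ p) ^ j, pow_mem (pow_mem hk p) j, by rw [mat_pow, hkp, smul_pow, one_pow, hj]⟩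

/-- The kernel of the ratio is the Sylow subgroup times scalars. -/
theorem Pre.ratio_one (h : Pre P p) {g : G3} (hg : g ∈ Nrm P) (h1 : ratio g = 1) :
    ∃ u ∈ P ⊓ toe, ∃ s ∈ P, s ∈ scalars (Fin 3) F ∧ g = u * s := by
  obtain ⟨χ, y, x, w, z, he, hχ, hy⟩ := h.nrm_shape hg
  rw [ratio_eq he hy] at h1
  subst h1
  have hy0 : y ≠ 0 := fun e => by simp [e] at hy
  have he' : mat g = y • (1 + !![0, x / y, z / y; 0, 0, w / y; 0, 0, 0]) := by
    rw [he]
    ext i j
    fin_cases i <;> fin_cases j <;> simp <;> field_simp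
  obtain ⟨s, hs, hse⟩ := recover_scalar (p := p) h.odd hg.1 hy (tri_cube _ _ _) he'
  have hss := mem_scalars_of_smul hse
  have hsN : s ∈ Nrm P := ⟨hs, mem_normalizer_of_map_le fun a ha => by
    rw [scalar_commute hss, mul_inv_cancel_right]; exact ha⟩
  have hu : mat (g * s⁻¹) = 1 + !![0, x / y, z / y; 0, 0, w / y; 0, 0, 0] := by
    calc mat (g * s⁻¹) = (1 + !![0, x / y, z / y; 0, 0, w / y; 0, 0, 0]) * mat s * mat s⁻¹ := by
          rw [mat_mul, he', hse, Matrix.mul_smul, mul_one]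
      _ = _ := by rw [mul_assoc, mat_mul_inv, mul_one]
  refine ⟨g * s⁻¹, h.pelem_nrm (mul_mem hg (inv_mem hsN)) (k := 1) ?_, s, hs, hss, by rw [inv_mul_cancel_right]⟩
  refine Units.ext ?_
  show mat ((g * s⁻¹) ^ p ^ 1) = 1
  rw [pow_one, mat_pow, hu, one_add_pow p h.odd (tri_cube _ _ _)]

/-- Some element of the normaliser has non-trivial ratio. -/
theorem Pre.exists_ratio (h : Pre P p) : ∃ g ∈ Nrm P, ratio g ≠ 1 := by
  by_contra hc
  push Not at hc
  set Q := P ⊓ toe with hQ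
  -- the Sylow subgroup of the group itself
  let S : Sylow p P :=
    { toSubgroup := Q.subgroupOf P
      isPGroup' := (toe_isPGroup h.odd P).of_equiv (Subgroup.subgroupOfEquivOfLe inf_le_left).symm
      is_maximal' := fun {T} hT hle => by
        have h1 : T.map P.subtype = Q := by
          refine h.syl _ (hT.map P.subtype) (Subgroup.map_subtype_le T) ?_
          show Q ≤ _
          rw [← Subgroup.map_subgroupOf_eq_of_le (show Q ≤ P from inf_le_left)]
          exact Subgroup.map_mono hle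
        rw [← h1, Subgroup.subgroupOf, Subgroup.comap_map_eq_self_of_injective P.subtype_injective] }
  have hcent : Subgroup.normalizer ((S : Subgroup P) : Set P) ≤ Subgroup.centralizer ((S : Subgroup P) : Set P) := by
    intro g hg
    have hgN : (g : G3) ∈ Nrm P := ⟨g.2, mem_normalizer_of_map_le fun w hw => by
      exact (Subgroup.mem_normalizer_iff.1 hg ⟨w, hw.1⟩).1 hw⟩
    obtain ⟨u, hu, s, hs, hss, he⟩ := h.ratio_one hgN (hc _ hgN)
    intro w hw
    refine Subtype.ext ?_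
    show (w : G3) * g = g * w
    rw [he]
    have hw' : (w : G3) ∈ toe := (show (w : G3) ∈ Q from hw).2
    rw [← mul_assoc, toe_comm hw' hu.2, mul_assoc, mul_assoc, scalar_commute hss]
  have hker : (MonoidHom.transferSylow S hcent).ker = ⊤ := by
    rw [eq_top_iff]
    intro g _
    have hg : (g : G3) ∈ ⁅P, P⁆ := h.core.perfect.symm ▸ g.2
    have htop : ⁅(⊤ : Subgroup P), (⊤ : Subgroup P)⁆ = ⊤ := by
      refine Subgroup.map_injective P.subtype_injective ?_
      rw [Subgroup.map_commutator, ← MonoidHom.range_eq_map, Subgroup.range_subtype, h.core.perfect]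
    have hle : ⁅(⊤ : Subgroup P), (⊤ : Subgroup P)⁆ ≤ (MonoidHom.transferSylow S hcent).ker := by
      rw [Subgroup.commutator_le]
      intro a _ b _
      rw [MonoidHom.mem_ker, map_commutatorElement, commutatorElement_eq_one_iff_mul_comm]
      exact Subtype.ext (Subtype.ext (toe_comm (show ((_ : P) : G3) ∈ Q from (MonoidHom.transferSylow S hcent a).2).2
        (show ((_ : P) : G3) ∈ Q from (MonoidHom.transferSylow S hcent b).2).2))
    exact hle (htop.symm ▸ Subgroup.mem_top g)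
  have hbot : (S : Subgroup P) = ⊥ := by
    have := MonoidHom.ker_transferSylow_isComplement' S hcent
    rw [hker] at this
    exact Subgroup.isComplement'_top_left.1 this
  obtain ⟨u, hu, c, hue⟩ := h.elem
  have : (⟨u, hu⟩ : P) ∈ (S : Subgroup P) := (show u ∈ Q from ⟨hu, 1, c, hue⟩)
  rw [hbot, Subgroup.mem_bot] at this
  have e := congrFun (congrFun (hue.symm.trans (congrArg (fun x : P => mat (x : G3)) this)) 0) 1
  simp [uni, mat] at e

end Cfsg.Agent.ResidualThree.Regular
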