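import Cfsg.Agent.ResidualThree.Regular.Diag
import Cfsg.Agent.ResidualThree.Regular.CosetSum

/-!
Invariant pure tensors: sums over the cosets of the Sylow normaliser.
-/

set_option autoImplicit false

namespace Cfsg.Agent.ResidualThree.Regular

open Matrix Cfsg.Geo Cfsg.Agent.PrimeDim Cfsg.Agent.ResidualThree
open scoped MatrixGroups

variable {F : Type*} [Field F] [Finite F] {P : Subgroup (GL (Fin 3) F)} {p n : ℕ} [Fact p.Prime] [CharP F p]
  {h : GL (Fin 3) F} {χ y : F}

local notation "G3" => GL (Fin 3) F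
local notation "M3" => Matrix (Fin 3) (Fin 3) F

/-- The Sylow subgroup inside the group. -/
abbrev syl (P : Subgroup G3) : Subgroup P := (P ⊓ toe).subgroupOf P

/-- Only the base coset contributes. -/
theorem RFrame.cosetSum_one (R : RFrame P p n h χ y) {f : P → F}
    (hf : ∀ g : P, ∀ k ∈ (Nrm P).subgroupOf P, f (g * k) = f g) {d : ℕ}
    (hdeg : ∀ g : P, Deg d (fun u : syl P => f ((u : P) * g))) (hd : d < n * (p - 1)) :
    cosetSum ((Nrm P).subgroupOf P) f = f 1 := by
  refine cosetSum_eq p _ (syl P) (fun u hu => toe_le_nrm P hu) (fun g hg u hu hN => ?_) (fun u => ?_) ?_ hf hdeg hd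
  · exact Subtype.ext (R.pre.free g.2 hg hu (by simpa [Subgroup.mem_subgroupOf] using hN))
  · exact Subtype.ext (Subtype.ext (toe_pow p R.pre.odd u.2.2))
  · rw [Nat.card_congr (Subgroup.subgroupOfEquivOfLe inf_le_left).toEquiv]
    exact R.card

/-- Invariance under the normaliser is checked on three kinds of elements. -/
theorem RFrame.invariant_of (R : RFrame P p n h χ y) {f : P → F}
    (hu : ∀ g u : P, (u : G3) ∈ P ⊓ toe → f (g * u) = f g)
    (hs : ∀ g s : P, (s : G3) ∈ scalars (Fin 3) F → f (g * s) = f g)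
    (hh : ∀ g : P, f (g * ⟨h, R.mem.1⟩) = f g) : ∀ g : P, ∀ k ∈ (Nrm P).subgroupOf P, f (g * k) = f g := by
  intro g k hk
  obtain ⟨u, hu', s, hs', hss, j, hj⟩ := R.gen k hk
  have e : k = (⟨u, hu'.1⟩ : P) * ⟨s, hs'⟩ * ⟨h, R.mem.1⟩ ^ j := Subtype.ext hj
  have hpow : ∀ (j : ℕ) (g : P), f (g * ⟨h, R.mem.1⟩ ^ j) = f g := fun j => by
    induction j with
    | zero => intro g; rw [pow_zero, mul_one]
    | succ j ih => intro g; rw [pow_succ, ← mul_assoc, hh, ih]
  rw [e, ← mul_assoc, hpow, ← mul_assoc, hs _ _ hss, hu _ _ hu']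

omit [Finite F] [Fact p.Prime] [CharP F p] in
theorem deg_uni {A : Type*} [Group A] (ρ : A → M3) (hmul : ∀ a b, ρ (a * b) = ρ a * ρ b)
    (hshape : ∀ a, ∃ x w z : F, ρ a = uni x w z) (i k : Fin 3) :
    Deg ((k : ℕ) - (i : ℕ)) (fun a => ρ a i k) := by
  choose x w z he using hshape
  have h01 : Deg 1 (fun a => x a) := fun b => fun c a => by
    have e := fun a => congrFun (congrFun (hmul b a) 0) 1
    simp only [he, uni_mul] at e
    simp [uni] at e
    simp only [diffOp, e]
    ring
  have h12 : Deg 1 (fun a => w a) := fun b => fun c a => by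
    have e := fun a => congrFun (congrFun (hmul b a) 1) 2
    simp only [he, uni_mul] at e
    simp [uni] at e
    simp only [diffOp, e]
    ring
  have h02 : Deg 2 (fun a => z a) := fun b => by
    have e := fun a => congrFun (congrFun (hmul b a) 0) 2
    simp only [he, uni_mul] at e
    simp [uni] at e
    rw [show diffOp b (fun a => z a) = (fun a => x b * w a) + fun _ => z b from
      funext fun a => show z (b * a) - z a = x b * w a + z b by rw [e a]; ring]
    exact (h12.const_mul (x b)).add (Deg.const _ 1)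
  simp only [he]
  fin_cases i <;> fin_cases k <;> simp [uni] <;>
    first
      | exact Deg.const _ _
      | exact h01
      | exact h12
      | exact h02

omit [Finite F] in
theorem uni_of_syl (u : syl P) : ∃ a c : F, mat ((u : P) : G3) = uni a a c := u.2.2

omit [Finite F] [Fact p.Prime] [CharP F p] in
theorem deg_mat (i k : Fin 3) :
    Deg ((k : ℕ) - (i : ℕ)) (fun u : syl P => mat ((u : P) : G3) i k) :=
  deg_uni (fun u : syl P => mat ((u : P) : G3)) (fun a b => mat_mul _ _)
    (fun u => by obtain ⟨a, c, e⟩ := uni_of_syl u; exact ⟨a, a, c, e⟩) i k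

omit [Finite F] [Fact p.Prime] [CharP F p] in
theorem deg_mat_inv (i k : Fin 3) :
    Deg ((k : ℕ) - (i : ℕ)) (fun u : syl P => mat ((u : P) : G3)⁻¹ i k) := by
  refine deg_uni (fun u : syl P => mat ((u : P) : G3)⁻¹) (fun a b => ?_) (fun u => ?_) i k
  · show mat ((((a * b : syl P) : P) : G3))⁻¹ = mat ((a : P) : G3)⁻¹ * mat ((b : P) : G3)⁻¹
    rw [← mat_mul, Subgroup.coe_mul, Subgroup.coe_mul, _root_.mul_inv_rev,
      show ((b : P) : G3)⁻¹ * ((a : P) : G3)⁻¹ = ((a : P) : G3)⁻¹ * ((b : P) : G3)⁻¹ from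
        toe_comm (inv_mem b.2.2) (inv_mem a.2.2)]
  · obtain ⟨a, c, e⟩ := uni_of_syl u⁻¹
    exact ⟨a, a, c, by rw [← e]; rfl⟩

/-- A vector attached to an element: the first column, or the last row of the inverse. -/
def pvec (b : Bool) (g : G3) (i : Fin 3) : F := if b then mat g i 0 else mat g⁻¹ 2 i

/-- The base index. -/
def pbase (b : Bool) : Fin 3 := if b then 0 else 2

/-- The transformation of the vectors. -/
def pmat (b : Bool) (x : G3) : M3 := if b then mat x else (mat x⁻¹)ᵀ

omit [Finite F] [Fact p.Prime] [CharP F p] in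
theorem pvec_mul (b : Bool) (x g : G3) (i : Fin 3) : pvec b (x * g) i = ∑ l, pmat b x i l * pvec b g l := by
  cases b
  · simp [pvec, pmat, mat_mul, Matrix.mul_apply, mul_comm]
  · simp [pvec, pmat, mat_mul, Matrix.mul_apply]

omit [Finite F] [Fact p.Prime] [CharP F p] in
theorem pmat_base (b : Bool) (x : G3) (i : Fin 3) : pmat b x i (pbase b) = pvec b x i := by
  cases b <;> simp [pvec, pmat, pbase]

omit [Finite F] [Fact p.Prime] [CharP F p] in
theorem pvec_one (b : Bool) (i : Fin 3) : pvec b (1 : G3) i = if i = pbase b then 1 else 0 := by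
  cases b <;> simp [pvec, pbase, mat, Matrix.one_apply, eq_comm]

omit [Finite F] [Fact p.Prime] [CharP F p] in
theorem pvec_right (b : Bool) {k : G3} {a c : F} (h0 : ∀ l, mat k l 0 = if l = 0 then a else 0)
    (h2 : ∀ l, mat k⁻¹ 2 l = if l = 2 then c else 0) (g : G3) (i : Fin 3) :
    pvec b (g * k) i = (if b then a else c) * pvec b g i := by
  cases b
  · simp only [pvec, Bool.false_eq_true, if_false, _root_.mul_inv_rev, mat_mul, Matrix.mul_apply, h2]
    simp
  · simp [pvec, mat_mul, Matrix.mul_apply, h0, mul_comm]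

/-- No invariant pure tensor of small degree exists. -/
theorem RFrame.pure_false (R : RFrame P p n h χ y) {J : Type*} [Fintype J] [Nonempty J] (kind : J → Bool)
    (τ : J → (F →+* F)) (hscal : ∀ μ : F, (∃ s ∈ P, mat s = μ • (1 : M3)) →
      ∏ j, τ j (if kind j then μ else μ⁻¹) = 1)
    (hh : ∏ j, τ j (if kind j then y * χ else χ / y) = 1) (hd : 2 * Fintype.card J < n * (p - 1)) : False := by
  classical
  let f : (J → Fin 3) → P → F := fun v g => ∏ j, τ j (pvec (kind j) (g : G3) (v j))
  have hmult : ∀ (k : P) (a c : F), (∀ l, mat (k : G3) l 0 = if l = 0 then a else 0) →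
      (∀ l, mat (k : G3)⁻¹ 2 l = if l = 2 then c else 0) →
      (∏ j, τ j (if kind j then a else c)) = 1 → ∀ v g, f v (g * k) = f v g := by
    intro k a c h0 h2 h1 v g
    simp only [f, Subgroup.coe_mul, pvec_right _ h0 h2, map_mul, Finset.prod_mul_distrib, h1, one_mul]
  have hy0 : y ≠ 0 := fun e => by simpa [e] using R.hy
  have hhinv : mat h⁻¹ = Matrix.diagonal ![(y * χ)⁻¹, y⁻¹, χ / y] := by
    have e : mat h * Matrix.diagonal ![(y * χ)⁻¹, y⁻¹, χ / y] = 1 := by
      rw [R.diag, Matrix.diagonal_mul_diagonal, ← Matrix.diagonal_one]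
      congr 1
      funext i
      have := R.χ0
      fin_cases i <;> simp <;> field_simp
    calc mat h⁻¹ = mat h⁻¹ * (mat h * Matrix.diagonal ![(y * χ)⁻¹, y⁻¹, χ / y]) := by rw [e, mul_one]
      _ = _ := by rw [← mul_assoc, mat_inv_mul, one_mul]
  have hinv : ∀ v, ∀ g : P, ∀ k ∈ (Nrm P).subgroupOf P, f v (g * k) = f v g := by
    intro v
    refine R.invariant_of (fun g u hu => ?_) (fun g s hs => ?_) (fun g => ?_)
    · obtain ⟨a, c, e⟩ := hu.2
      refine hmult u 1 1 (fun l => ?_) (fun l => ?_) (by simp) v g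
      · rw [e]; fin_cases l <;> simp [uni]
      · rw [inv_uni e]; fin_cases l <;> simp [uni]
    · obtain ⟨μ, hμ⟩ := (mem_scalars_iff _).1 hs
      have hμ' : mat (s : G3) = (μ : F) • (1 : M3) := hμ
      have hsi : mat (s : G3)⁻¹ = (μ : F)⁻¹ • (1 : M3) := by
        calc mat (s : G3)⁻¹ = mat (s : G3)⁻¹ * ((μ : F)⁻¹ • mat (s : G3)) := by
              rw [hμ', smul_smul, inv_mul_cancel₀ μ.ne_zero, one_smul, mul_one]
          _ = _ := by rw [Matrix.mul_smul, mat_inv_mul]
      refine hmult s μ (μ : F)⁻¹ (fun l => ?_) (fun l => ?_) (hscal μ ⟨s, s.2, hμ'⟩) v g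
      · rw [hμ']; fin_cases l <;> simp
      · rw [hsi]; fin_cases l <;> simp
    · refine hmult ⟨h, R.mem.1⟩ (y * χ) (χ / y) (fun l => ?_) (fun l => ?_) hh v g
      · show mat h l 0 = _
        rw [R.diag]; fin_cases l <;> simp
      · show mat h⁻¹ 2 l = _
        rw [hhinv]; fin_cases l <;> simp
  have hdeg : ∀ v, ∀ g : P, Deg (2 * Fintype.card J) (fun u : syl P => f v ((u : P) * g)) := by
    intro v g
    have h1 : ∀ j, Deg 2 (fun u : syl P => τ j (pvec (kind j) (((u : P) : G3) * g) (v j))) := by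
      intro j
      refine Deg.map (τ j) ?_
      simp only [pvec_mul]
      refine Deg.sum Finset.univ fun l _ => Deg.mul_const _ ?_
      cases kind j
      · simp only [pmat, Bool.false_eq_true, if_false, Matrix.transpose_apply]
        exact (deg_mat_inv (P := P) l (v j)).mono (by omega)
      · simp only [pmat, if_true]
        exact (deg_mat (P := P) (v j) l).mono (by omega)
    have := Deg.prod (Finset.univ : Finset J) (fun j _ => h1 j)
    rw [Finset.sum_const, Finset.card_univ, smul_eq_mul, mul_comm] at this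
    exact this
  have hS : ∀ v, cosetSum ((Nrm P).subgroupOf P) (f v) = f v 1 := fun v =>
    R.cosetSum_one (hinv v) (hdeg v) hd
  have hfix : ∀ (x : P) v, f v x = f v 1 := by
    intro x v
    have h1 := cosetSum_left ((Nrm P).subgroupOf P) (hinv v) x
    have hexp : (fun g => f v (x * g)) = fun g => ∑ w ∈ Fintype.piFinset (fun _ : J => Finset.univ),
        (∏ j, τ j (pmat (kind j) (x : G3) (v j) (w j))) * f w g := by
      funext g
      simp only [f, Subgroup.coe_mul, pvec_mul, map_sum, map_mul]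
      rw [Finset.prod_univ_sum]
      exact Finset.sum_congr rfl fun w _ => Finset.prod_mul_distrib
    rw [hexp, Fintype.piFinset_univ, cosetSum_linear, hS] at h1
    simp only [hS] at h1
    rw [← h1, Finset.sum_eq_single (fun j => pbase (kind j))]
    · simp [f, pvec_one, pmat_base]
    · intro w _ hw
      obtain ⟨j, hj⟩ := Function.ne_iff.1 hw
      refine mul_eq_zero_of_right _ (Finset.prod_eq_zero (Finset.mem_univ j) ?_)
      simp [pvec_one, hj]
    · intro hh'; exact absurd (Finset.mem_univ _) hh'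
  have hvec_ne : ∀ b (x : G3), ∃ l, pvec b x l ≠ 0 := fun b x => by
    by_contra! hc
    cases b
    · have e := congrFun (congrFun (mat_inv_mul x) 2) 2
      rw [Matrix.mul_apply, Finset.sum_eq_zero fun l _ => ?_] at e
      · simp at e
      · rw [show mat x⁻¹ 2 l = 0 by simpa [pvec] using hc l, zero_mul]
    · have e := congrFun (congrFun (mat_inv_mul x) 0) 0
      rw [Matrix.mul_apply, Finset.sum_eq_zero fun l _ => ?_] at e
      · simp at e
      · rw [show mat x l 0 = 0 by simpa [pvec] using hc l, mul_zero]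
  have hzero : ∀ b, (∃ j, kind j = b) → ∀ x : P, ∀ i, i ≠ pbase b → pvec b (x : G3) i = 0 := by
    rintro b ⟨j₀, hj₀⟩ x i hi
    by_contra hne
    choose l hl using fun j => hvec_ne (kind j) (x : G3)
    have h1 := hfix x (fun j => if kind j = b then i else l j)
    have hr : f (fun j => if kind j = b then i else l j) 1 = 0 :=
      Finset.prod_eq_zero (Finset.mem_univ j₀) (by simp [hj₀, pvec_one, hi])
    rw [hr, Finset.prod_eq_zero_iff] at h1
    obtain ⟨j, -, hj⟩ := h1
    rw [map_eq_zero] at hj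
    by_cases hb : kind j = b
    · simp only [if_pos hb] at hj; rw [hb] at hj; exact hne hj
    · simp only [if_neg hb] at hj; exact hl j hj
  by_cases ht : ∃ j, kind j = true
  · obtain ⟨g, hg, hgv⟩ := R.pre.core.no_line (v := Pi.single 0 1) (by simp)
    refine hgv (mat g 0 0) (funext fun i => ?_)
    have h0 := hzero true ht ⟨g, hg⟩
    fin_cases i
    · simp
    · simpa [pvec, pbase] using h0 1 (by decide)
    · simpa [pvec, pbase] using h0 2 (by decide)
  · have hf : ∃ j, kind j = false := ⟨Classical.arbitrary J, by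
      by_contra hc; exact ht ⟨_, Bool.eq_true_of_not_eq_false hc⟩⟩
    obtain ⟨g, hg, hgv⟩ := R.pre.core.no_plane (α := Pi.single 2 1) (by simp)
    refine hgv (mat g 2 2) (funext fun i => ?_)
    have h0 := hzero false hf ⟨g⁻¹, inv_mem hg⟩
    fin_cases i
    · simpa [pvec, pbase] using h0 0 (by decide)
    · simpa [pvec, pbase] using h0 1 (by decide)
    · simp

end Cfsg.Agent.ResidualThree.Regular
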