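import Cfsg.Agent.ResidualThree.Pairs
import Cfsg.Agent.ResidualThree.Transport
import Cfsg.Agent.ResidualThree.Uni
import Mathlib.GroupTheory.Transfer
import Mathlib.LinearAlgebra.Matrix.Charpoly.Coeff

/-!
Without transvections the Sylow subgroup in the defining characteristic consists of regular unipotent elements.
-/

set_option autoImplicit false

namespace Cfsg.Agent.ResidualThree.Regular

open Matrix Cfsg.Geo Cfsg.Agent.PrimeDim Cfsg.Agent.ResidualThree
open scoped MatrixGroups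

variable {F : Type*} [Field F] {P : Subgroup (GL (Fin 3) F)}

local notation "G3" => GL (Fin 3) F
local notation "M3" => Matrix (Fin 3) (Fin 3) F

theorem mat_pow (g : G3) (n : ℕ) : mat (g ^ n) = mat g ^ n := Units.val_pow_eq_pow_val g n

theorem nil_cube {N : M3} (h : IsNilpotent N) : N ^ 3 = 0 := by
  have h1 := Matrix.isNilpotent_charpoly_sub_pow_of_isNilpotent h
  rw [isNilpotent_iff_eq_zero, sub_eq_zero, Fintype.card_fin] at h1
  have h2 := Matrix.aeval_self_charpoly N
  rwa [h1, map_pow, Polynomial.aeval_X] at h2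

/-- The upper unitriangular Toeplitz matrices. -/
def toe : Subgroup G3 where
  carrier := {g | ∃ a c : F, mat g = uni a a c}
  one_mem' := ⟨0, 0, by rw [uni_zero]; exact Units.val_one⟩
  mul_mem' := fun {g k} ⟨a, c, hg⟩ ⟨b, d, hk⟩ => ⟨a + b, d + a * b + c, by rw [mat_mul, hg, hk, uni_mul]⟩
  inv_mem' := fun {g} ⟨a, c, hg⟩ => ⟨-a, a * a - c, by
    have h : mat g * uni (-a) (-a) (a * a - c) = 1 := by
      rw [hg, uni_mul, ← uni_zero]; congr 1 <;> ring
    calc mat g⁻¹ = mat g⁻¹ * (mat g * uni (-a) (-a) (a * a - c)) := by rw [h, mul_one]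
      _ = _ := by rw [← mul_assoc, mat_inv_mul, one_mul]⟩

theorem toe_comm {g k : G3} (hg : g ∈ toe) (hk : k ∈ toe) : g * k = k * g := by
  obtain ⟨a, c, hg⟩ := hg
  obtain ⟨b, d, hk⟩ := hk
  refine Units.ext ?_
  show mat g * mat k = mat k * mat g
  rw [hg, hk, uni_mul, uni_mul]
  congr 1 <;> ring

theorem uni_cube (a c : F) : (uni a a c - 1) ^ 3 = 0 := by
  rw [uni_sub_one]
  ext i j
  fin_cases i <;> fin_cases j <;> simp [pow_succ, Matrix.mul_apply, Fin.sum_univ_three]

theorem one_add_pow (p : ℕ) [Fact p.Prime] [CharP F p] (hp : p ≠ 2) {N : M3} (hN : N ^ 3 = 0) :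
    (1 + N) ^ p = 1 := by
  have h3 : 3 ≤ p := by have := (Fact.out : p.Prime).two_le; omega
  have h := add_pow_char_of_commute p (Commute.one_left N)
  rw [h, one_pow, pow_eq_zero_of_le h3 hN, add_zero]

theorem toe_pow (p : ℕ) [Fact p.Prime] [CharP F p] (hp : p ≠ 2) {g : G3} (hg : g ∈ toe) : g ^ p = 1 := by
  obtain ⟨a, c, hg⟩ := hg
  refine Units.ext ?_
  show mat (g ^ p) = 1
  rw [mat_pow, hg, show uni a a c = 1 + (uni a a c - 1) by rw [add_sub_cancel], one_add_pow p hp (uni_cube a c)]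

/-- An element of `p`-power order other than one is regular. -/
theorem regular_of_pow (p : ℕ) [Fact p.Prime] [CharP F p] (hnt : NoTv P) {g : G3} (hg : g ∈ P)
    (h1 : g ≠ 1) {k : ℕ} (hk : g ^ p ^ k = 1) : (mat g - 1) ^ 3 = 0 ∧ (mat g - 1) * (mat g - 1) ≠ 0 := by
  have h : (mat g - 1) ^ p ^ k = 0 := by
    rw [sub_pow_char_pow_of_commute p k (Commute.one_right (mat g)), one_pow, ← mat_pow, hk, mat,
      Units.val_one, sub_self]
  exact ⟨nil_cube ⟨_, h⟩, fun e => hnt _ (isTv_of_sq hg h1 e)⟩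

/-- A basis in which a regular element is the standard one. -/
theorem exists_conj_std {g : G3} (h3 : (mat g - 1) ^ 3 = 0) (h2 : (mat g - 1) * (mat g - 1) ≠ 0) :
    ∃ B : G3, mat (B * g * B⁻¹) = uni 1 1 0 := by
  set N := mat g - 1 with hN
  obtain ⟨v, hv⟩ : ∃ v, (N * N) *ᵥ v ≠ 0 := by
    by_contra! h
    exact h2 (Matrix.ext_of_mulVec_single fun i => by rw [h, Matrix.zero_mulVec])
  set A : M3 := (Matrix.of ![(N * N) *ᵥ v, N *ᵥ v, v])ᵀ with hA
  have hz : N * N * N = 0 := by rw [← h3, pow_succ, pow_two]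
  have hA' : ∀ x : Fin 3 → F, A *ᵥ x = x 0 • ((N * N) *ᵥ v) + x 1 • (N *ᵥ v) + x 2 • v := fun x => by
    funext i
    simp [hA, Matrix.mulVec, dotProduct, Fin.sum_univ_three, mul_comm]
  have hdet : A.det ≠ 0 := by
    intro hd
    obtain ⟨x, hx0, hx⟩ := Matrix.exists_mulVec_eq_zero_iff.2 hd
    rw [hA'] at hx
    have e1 := congrArg ((N * N) *ᵥ ·) hx
    simp only [Matrix.mulVec_add, Matrix.mulVec_smul, Matrix.mulVec_mulVec, Matrix.mulVec_zero] at e1
    rw [show N * N * (N * N) = 0 by rw [← mul_assoc, hz, zero_mul], hz, Matrix.zero_mulVec, smul_zero, smul_zero,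
      zero_add, zero_add, smul_eq_zero] at e1
    have x2 := e1.resolve_right hv
    rw [x2, zero_smul, add_zero] at hx
    have e2 := congrArg (N *ᵥ ·) hx
    simp only [Matrix.mulVec_add, Matrix.mulVec_smul, Matrix.mulVec_mulVec, Matrix.mulVec_zero] at e2
    rw [show N * (N * N) = 0 by rw [← mul_assoc, hz], Matrix.zero_mulVec, smul_zero, zero_add, smul_eq_zero] at e2
    have x1 := e2.resolve_right hv
    rw [x1, zero_smul, add_zero, smul_eq_zero] at hx
    refine hx0 (funext fun i => ?_)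
    fin_cases i
    · exact hx.resolve_right hv
    · exact x1
    · exact x2
  have key : mat g * A = A * uni 1 1 0 := by
    have hg : mat g = 1 + N := by rw [hN, add_sub_cancel]
    refine Matrix.ext_of_mulVec_single fun j => ?_
    rw [← Matrix.mulVec_mulVec, ← Matrix.mulVec_mulVec, hA', hA', hg, Matrix.add_mulVec, Matrix.one_mulVec]
    simp only [Matrix.mulVec_add, Matrix.mulVec_smul, Matrix.mulVec_mulVec]
    rw [show N * (N * N) = 0 by rw [← mul_assoc, hz], Matrix.zero_mulVec]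
    fin_cases j <;> simp [uni] <;> abel
  let U : G3 := ((Matrix.isUnit_iff_isUnit_det A).2 (isUnit_iff_ne_zero.2 hdet)).unit
  refine ⟨U⁻¹, ?_⟩
  have hU : mat U = A := IsUnit.unit_spec _
  rw [mat_mul, mat_mul, inv_inv, hU, mul_assoc, key, ← mul_assoc, ← hU, mat_inv_mul, one_mul]

variable [Finite F]

/-- The standing hypotheses: a standard regular element central in a Sylow subgroup. -/
structure Pre (P : Subgroup G3) (p : ℕ) : Prop where
  core : Core P
  notv : NoTv P
  odd : p ≠ 2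
  elem : ∃ g ∈ P, ∃ c : F, mat g = uni 1 1 c
  syl : ∀ S : Subgroup G3, IsPGroup p S → S ≤ P → P ⊓ toe ≤ S → S = P ⊓ toe

variable {p : ℕ} [Fact p.Prime] [CharP F p]

/-- The commutant of the standard element. -/
theorem comm_shape {k : G3} {a c : F} (ha : a ≠ 0) (h : mat k * uni a a c = uni a a c * mat k) :
    ∃ μ b d : F, mat k = !![μ, b, d; 0, μ, b; 0, 0, μ] := by
  have e00 := congrFun (congrFun h 0) 0
  have e01 := congrFun (congrFun h 0) 1
  have e02 := congrFun (congrFun h 0) 2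
  have e10 := congrFun (congrFun h 1) 0
  have e11 := congrFun (congrFun h 1) 1
  have e12 := congrFun (congrFun h 1) 2
  simp [uni, Matrix.mul_apply, Fin.sum_univ_three] at e00 e01 e02 e10 e11 e12
  have k20 : mat k 2 0 = 0 := e10.resolve_left ha
  have k10 : mat k 1 0 = 0 :=
    (mul_eq_zero.1 (show a * mat k 1 0 = 0 by linear_combination -e00 - c * k20)).resolve_left ha
  have k21 : mat k 2 1 = 0 :=
    (mul_eq_zero.1 (show a * mat k 2 1 = 0 by linear_combination -e11 + a * k10)).resolve_left ha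
  have k11 : mat k 1 1 = mat k 0 0 :=
    mul_left_cancel₀ ha (by linear_combination -e01 - c * k21)
  have k22 : mat k 2 2 = mat k 0 0 :=
    mul_left_cancel₀ ha (by linear_combination -e12 + a * k11 + c * k10)
  have k12 : mat k 1 2 = mat k 0 1 :=
    mul_left_cancel₀ ha (by linear_combination -e02 - c * k22)
  refine ⟨mat k 0 0, mat k 0 1, mat k 0 2, ?_⟩
  ext i j
  fin_cases i <;> fin_cases j <;> simp [k20, k10, k21, k11, k22, k12]

/-- An element that is scalar plus nilpotent splits inside the group. -/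
theorem split_scalar (hP : Core P) (hp : p ≠ 2) {k : G3} (hk : k ∈ P) {μ b d : F}
    (he : mat k = !![μ, b, d; 0, μ, b; 0, 0, μ]) :
    ∃ u ∈ P ⊓ toe, ∃ s ∈ P, s ∈ scalars (Fin 3) F ∧ k = u * s ∧ mat s = μ • (1 : M3) := by
  have hp3 : 3 ≤ p := by have := (Fact.out : p.Prime).two_le; omega
  have hμ3 : μ ^ 3 = 1 := by
    have := hP.det_eq_one hk
    rw [he, Matrix.det_fin_three] at this
    simp at this
    linear_combination this
  have hμ0 : μ ≠ 0 := fun e => by simp [e] at hμ3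
  have hkN : mat k = μ • (1 : M3) * uni (b / μ) (b / μ) (d / μ) := by
    rw [he]
    ext i j
    fin_cases i <;> fin_cases j <;> simp [uni] <;> field_simp
  have hkp : mat (k ^ p) = μ ^ p • (1 : M3) := by
    rw [mat_pow, hkN, Matrix.smul_mul, one_mul, smul_pow,
      show uni (b / μ) (b / μ) (d / μ) = 1 + (uni (b / μ) (b / μ) (d / μ) - 1) by rw [add_sub_cancel],
      one_add_pow p hp (uni_cube _ _)]
  -- recover the scalar from its power
  obtain ⟨j, hj⟩ : ∃ j : ℕ, (μ ^ p) ^ j = μ := by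
    by_cases h3 : p = 3
    · refine ⟨0, ?_⟩
      subst h3
      have : (μ - 1) ^ 3 = 0 := by rw [sub_pow_char, hμ3, one_pow, sub_self]
      rw [pow_zero, eq_comm, ← sub_eq_zero]
      exact pow_eq_zero_iff (by norm_num : (3 : ℕ) ≠ 0) |>.1 this
    · refine ⟨p, ?_⟩
      rw [← pow_mul, ← Nat.div_add_mod (p * p) 3, pow_add, pow_mul, hμ3, one_pow, one_mul]
      have hmod : p % 3 = 1 ∨ p % 3 = 2 := by
        have : ¬ 3 ∣ p := fun hd => h3 ((Nat.prime_dvd_prime_iff_eq Nat.prime_three Fact.out).1 hd).symm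
        omega
      rcases hmod with e | e <;> simp [Nat.mul_mod, e]
  set s := (k ^ p) ^ j with hs
  have hsm : mat s = μ • (1 : M3) := by rw [hs, mat_pow, hkp, smul_pow, one_pow, hj]
  have hsP : s ∈ P := pow_mem (pow_mem hk p) j
  refine ⟨k * s⁻¹, Subgroup.mem_inf.2 ⟨P.mul_mem hk (P.inv_mem hsP), b / μ, d / μ, ?_⟩, s, hsP, mem_scalars_of_smul hsm,
    by rw [inv_mul_cancel_right], hsm⟩
  calc mat (k * s⁻¹) = uni (b / μ) (b / μ) (d / μ) * mat s * mat s⁻¹ := by
        rw [mat_mul, hkN, ← hsm, hsm, Matrix.smul_mul, one_mul, Matrix.mul_smul, mul_one]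
    _ = _ := by rw [mul_assoc, mat_mul_inv, mul_one]

theorem scalar_p_trivial (hP : Core P) {s : G3} (hs : s ∈ P) (hss : s ∈ scalars (Fin 3) F) {k : ℕ}
    (hk : s ^ p ^ k = 1) : s = 1 := by
  obtain ⟨c, hc⟩ := (mem_scalars_iff s).1 hss
  have h1 : (c : F) ^ p ^ k = 1 := by
    have := congrArg (fun X => mat X 0 0) hk
    simp only [mat_pow, show mat s = _ from hc, smul_pow, one_pow] at this
    simpa [mat] using this
  have : ((c : F) - 1) ^ p ^ k = 0 := by rw [sub_pow_char_pow, h1, one_pow, sub_self]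
  have hc1 : (c : F) = 1 := sub_eq_zero.1 (pow_eq_zero_iff (pow_ne_zero k (Fact.out : p.Prime).ne_zero) |>.1 this)
  refine Units.ext ?_
  rw [hc, hc1, one_smul]
  exact Units.val_one.symm

/-- A `p`-element commuting with a non-trivial Toeplitz element of the group is Toeplitz. -/
theorem comm_toe (hP : Core P) (hnt : NoTv P) (hp : p ≠ 2) {u k : G3} (hu : u ∈ P ⊓ toe) (hu1 : u ≠ 1)
    (hk : k ∈ P) (hc : k * u = u * k) : ∃ w ∈ P ⊓ toe, ∃ s ∈ P, s ∈ scalars (Fin 3) F ∧ k = w * s := by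
  obtain ⟨huP, a, c, he⟩ := hu
  have ha : a ≠ 0 := by
    intro e
    refine hnt _ (isTv_of_sq huP hu1 ?_)
    rw [he, e, uni_sub_one]
    ext i j
    fin_cases i <;> fin_cases j <;> simp [Matrix.mul_apply, Fin.sum_univ_three]
  have h := congrArg mat hc
  rw [mat_mul, mat_mul, he] at h
  obtain ⟨μ, b, d, hshape⟩ := comm_shape ha h
  obtain ⟨w, hw, s, hs, hss, he', -⟩ := split_scalar (p := p) hP hp hk hshape
  exact ⟨w, hw, s, hs, hss, he'⟩

theorem comm_toe_pelem (hP : Core P) (hnt : NoTv P) (hp : p ≠ 2) {u k : G3} (hu : u ∈ P ⊓ toe) (hu1 : u ≠ 1)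
    (hk : k ∈ P) (hc : k * u = u * k) {j : ℕ} (hj : k ^ p ^ j = 1) : k ∈ P ⊓ toe := by
  obtain ⟨w, hw, s, hs, hss, rfl⟩ := comm_toe hP hnt hp hu hu1 hk hc
  have hsp : s ^ p ^ (j + 1) = 1 := by
    have h1 : (w * s) ^ p ^ (j + 1) = 1 := by rw [pow_succ, pow_mul, hj, one_pow]
    rwa [(show Commute w s from (scalar_commute hss w).symm).mul_pow,
      show w ^ p ^ (j + 1) = 1 by rw [pow_succ', pow_mul, toe_pow p hp hw.2, one_pow], one_mul] at h1
  rwa [scalar_p_trivial hP hs hss hsp, mul_one]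

omit [Finite F] in
theorem toe_isPGroup (hp : p ≠ 2) (P : Subgroup G3) : IsPGroup p (P ⊓ toe : Subgroup G3) := fun g =>
  ⟨1, Subtype.ext (by simpa using toe_pow p hp g.2.2)⟩

/-- After a conjugation the standing hypotheses hold. -/
theorem exists_pre (hP : Core P) (hnt : NoTv P) (hp : p ≠ 2) (hdvd : p ∣ Nat.card P) :
    ∃ B : G3, Pre (PrimeDim.conjGrp B P) p := by
  obtain ⟨S⟩ : Nonempty (Sylow p P) := inferInstance
  haveI : Nontrivial (S : Subgroup P) := by
    rw [Subgroup.nontrivial_iff_ne_bot]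
    intro e
    have := S.not_dvd_index
    rw [e, Subgroup.index_bot] at this
    exact this hdvd
  haveI := S.2.center_nontrivial
  obtain ⟨z, hz⟩ := exists_ne (1 : Subgroup.center (S : Subgroup P))
  set g : G3 := (((z : (S : Subgroup P)) : P) : G3) with hg
  obtain ⟨k, hk⟩ := S.2 (z : (S : Subgroup P))
  have hgk : g ^ p ^ k = 1 := by
    rw [hg, ← Subgroup.coe_pow, ← Subgroup.coe_pow, hk]; rfl
  have hgP : g ∈ P := (((z : (S : Subgroup P)) : P)).2
  have hg1 : g ≠ 1 := fun e => hz (Subtype.ext (Subtype.ext (Subtype.ext e)))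
  obtain ⟨h3, h2⟩ := regular_of_pow p hnt hgP hg1 hgk
  obtain ⟨B, hB⟩ := exists_conj_std h3 h2
  have hP' := hP.conjGrp B
  have hnt' : NoTv (PrimeDim.conjGrp B P) := fun X hX => hnt _ (isTv_of_conjGrp hX)
  have helem : B * g * B⁻¹ ∈ PrimeDim.conjGrp B P := ⟨g, hgP, rfl⟩
  refine ⟨B, hP', hnt', hp, ⟨_, helem, 0, hB⟩, fun T hT hTP hQT => ?_⟩
  -- the conjugate of the Sylow subgroup is Toeplitz
  set S' : Subgroup G3 := PrimeDim.conjGrp B ((S : Subgroup P).map P.subtype) with hS'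
  have hgt : B * g * B⁻¹ ∈ PrimeDim.conjGrp B P ⊓ toe := ⟨helem, 1, 0, hB⟩
  have hg1' : B * g * B⁻¹ ≠ 1 := fun e => hg1 (by rwa [mul_inv_eq_one, mul_eq_left] at e)
  have hS'le : S' ≤ PrimeDim.conjGrp B P ⊓ toe := by
    rintro _ ⟨x, ⟨y, hy, rfl⟩, rfl⟩
    obtain ⟨j, hj⟩ := S.2 ⟨y, hy⟩
    refine comm_toe_pelem (p := p) hP' hnt' hp hgt hg1' ⟨y, y.2, rfl⟩ ?_ (j := j) ?_
    · have hzy := (Subgroup.mem_center_iff.1 z.2 ⟨y, hy⟩)
      have e : (y : G3) * g = g * y := congrArg (fun w : (S : Subgroup P) => ((w : P) : G3)) hzy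
      show B * y * B⁻¹ * (B * g * B⁻¹) = B * g * B⁻¹ * (B * y * B⁻¹)
      simp only [mul_assoc, inv_mul_cancel_left]
      rw [← mul_assoc (y : G3), e, mul_assoc]
    · show (MulAut.conj B (y : G3)) ^ p ^ j = 1
      rw [← map_pow, show (y : G3) ^ p ^ j = 1 from congrArg (fun w : (S : Subgroup P) => ((w : P) : G3)) hj, map_one]
  -- a Sylow subgroup is maximal
  have hcardS : Nat.card S' = Nat.card S := by
    rw [hS', PrimeDim.conjGrp, Subgroup.card_map_of_injective (MulAut.conj B).injective,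
      Subgroup.card_map_of_injective P.subtype_injective]
  refine le_antisymm (fun x hx => ?_) hQT
  have hTc : Nat.card T ≤ Nat.card S := by
    have hT' : IsPGroup p (T.subgroupOf (PrimeDim.conjGrp B P)) := hT.of_equiv (Subgroup.subgroupOfEquivOfLe hTP).symm
    obtain ⟨S₂, hS₂⟩ := hT'.exists_le_sylow
    have hc1 : Nat.card T ≤ Nat.card S₂ :=
      (Nat.card_congr (Subgroup.subgroupOfEquivOfLe hTP).symm.toEquiv).le.trans (Subgroup.card_le_of_le hS₂)
    rw [S₂.card_eq_multiplicity, PrimeDim.conjGrp, Subgroup.card_map_of_injective (MulAut.conj B).injective,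
      ← S.card_eq_multiplicity] at hc1
    exact hc1
  have heq : S' = T := Subgroup.eq_of_le_of_card_ge (hS'le.trans hQT) (hTc.trans hcardS.ge)
  exact hS'le (heq ▸ hx)

end Cfsg.Agent.ResidualThree.Regular
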